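import Groth.Agent.CohDer1.FiltBl.Basic

/-! `R'[1/u] = A[T, T⁻¹]`. -/

set_option autoImplicit false

universe u

open LaurentPolynomial

namespace Groth.Agent.CohDer1.FiltBl

variable {A : Type u} [CommRing A] (𝓕 : _root_.FiltBl.IdealFiltration A)

instance isLocalization_away_u : IsLocalization.Away 𝓕.u A[T;T⁻¹] where
  map_units := by
    rintro ⟨_, n, rfl⟩
    rw [map_pow]
    exact (show IsUnit (algebraMap 𝓕.extRees A[T;T⁻¹] 𝓕.u) from isUnit_T (R := A) (-1)).pow n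
  surj y := by
    obtain ⟨N, hN⟩ : ∃ N : ℕ, ∀ m ∈ y.coeff.support, m ≤ (N : ℤ) :=
      ⟨y.coeff.support.sup Int.natAbs, fun m hm => Int.le_natAbs.trans (by exact_mod_cast Finset.le_sup (f := Int.natAbs) hm)⟩
    refine ⟨⟨⟨y * T (-(N : ℤ)), fun n => ?_⟩, ⟨_, N, rfl⟩⟩, ?_⟩
    · rw [LaurentPolynomial.T, AddMonoidAlgebra.coeff_mul_single_eq_coeff_mul (n + N) (fun m _ => by omega), mul_one]
      by_cases h : n + (N : ℤ) ∈ y.coeff.support
      · rw [show n.toNat = 0 by have := hN _ h; omega, 𝓕.zero_eq]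
        trivial
      · rw [Finsupp.notMem_support_iff.1 h]
        exact Ideal.zero_mem _
    · change y * ((𝓕.u ^ N : 𝓕.extRees) : A[T;T⁻¹]) = y * T (-(N : ℤ))
      rw [SubmonoidClass.coe_pow, coe_u, T_pow, show ((N : ℤ) * (-1)) = -(N : ℤ) by ring]
  exists_of_eq {x y} h := ⟨1, by rw [Submonoid.coe_one, one_mul, one_mul]; exact Subtype.ext h⟩

end Groth.Agent.CohDer1.FiltBl
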