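import Groth.Agent.CohDer1.FiltBl.S2

/-! Cohen–Macaulayness of the extended Rees algebra off the positive part. -/

set_option autoImplicit false

universe u

open IsLocalRing LaurentPolynomial

namespace Groth.Agent.CohDer1.FiltBl

/-- A prime of a localisation: transport a property of local rings. -/
theorem cm_comap_iff {R S : Type u} [CommRing R] [CommRing S] [Algebra R S] (W : Submonoid R) [IsLocalization W S]
    (P : Ideal S) [P.IsPrime] (Q : Ideal R) [Q.IsPrime] (hQ : P.comap (algebraMap R S) = Q) :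
    _root_.LocCoh.IsCohenMacaulayLocalRing (Localization.AtPrime Q) ↔
      _root_.LocCoh.IsCohenMacaulayLocalRing (Localization.AtPrime P) := by
  subst hQ
  obtain ⟨e, -⟩ := CAlgH3.isLocalization_atPrime_under W P
  exact ⟨fun h => CAlgH3.isCohenMacaulayLocalRing_of_ringEquiv (h := h) e,
    fun h => CAlgH3.isCohenMacaulayLocalRing_of_ringEquiv (h := h) e.symm⟩

theorem cm_polynomial_atPrime {A : Type u} [CommRing A] [IsNoetherianRing A] (P : Ideal (Polynomial A)) [P.IsPrime]
    (h : _root_.LocCoh.IsCohenMacaulayLocalRing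
      (Localization.AtPrime (P.comap (algebraMap A (Polynomial A))))) :
    _root_.LocCoh.IsCohenMacaulayLocalRing (Localization.AtPrime P) := by
  have hfib : ∀ n : ℕ, ∀ (p : Ideal A) [p.IsPrime],
      _root_.LocCoh.HasSk n (p.Fiber (Polynomial A)) (p.Fiber (Polynomial A)) := fun n p _ => by
    haveI : IsRegularRing (p.Fiber (Polynomial A)) :=
      IsRegularRing.of_ringEquiv (polyEquivTensor A p.ResidueField).toRingEquiv
    exact CommAlg6.isCMRing_of_isRegularRing n
  obtain ⟨h1, h2, -, -⟩ := CommAlg6.local_fibre (A := A) P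
  rw [CAlgH3.isCohenMacaulayLocalRing_iff_depth] at h ⊢
  haveI := CommAlg6.isLocalRing_fibLocRing (A := A) (B := Polynomial A) P
  obtain ⟨b, hb⟩ := CommAlg6.exists_dim_eq (EGA4.FibLocRing A (Polynomial A) P)
  have hle := CAlgH3.depth_le_supportDim (R := EGA4.FibLocRing A (Polynomial A) P) (M := EGA4.FibLocRing A (Polynomial A) P)
  rw [Module.supportDim_self_eq_ringKrullDim, hb, WithBot.coe_le_coe] at hle
  have hge : b ≤ _root_.LocCoh.depth (EGA4.FibLocRing A (Polynomial A) P) (EGA4.FibLocRing A (Polynomial A) P) := by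
    refine ENat.forall_natCast_le_iff_le.1 fun n hn => ?_
    have hk := (CommAlg6.forall_hasSk_fiber_iff n).1 (hfib n) P
    rw [hb, ← WithBot.coe_natCast, ← WithBot.coe_min, min_eq_left hn, WithBot.coe_le_coe] at hk
    exact hk
  rw [h1, h2, h, hb, le_antisymm hge hle, WithBot.coe_add]

variable {A : Type u} [CommRing A] [IsNoetherianRing A]

theorem cm_laurent_atPrime (P : Ideal A[T;T⁻¹]) [P.IsPrime]
    (h : _root_.LocCoh.IsCohenMacaulayLocalRing (Localization.AtPrime (P.comap (algebraMap A A[T;T⁻¹])))) :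
    _root_.LocCoh.IsCohenMacaulayLocalRing (Localization.AtPrime P) := by
  refine (cm_comap_iff (Submonoid.powers (Polynomial.X : Polynomial A)) P _ rfl).1 ?_
  refine cm_polynomial_atPrime _ ?_
  have hc : (P.comap (algebraMap (Polynomial A) A[T;T⁻¹])).comap (algebraMap A (Polynomial A)) =
      P.comap (algebraMap A A[T;T⁻¹]) := by
    rw [Ideal.comap_comap]
    congr 1
    ext a
    simp [LaurentPolynomial.algebraMap_apply]
  have hgen : ∀ (I : Ideal A) [I.IsPrime], P.comap (algebraMap A A[T;T⁻¹]) = I →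
      _root_.LocCoh.IsCohenMacaulayLocalRing (Localization.AtPrime I) := by
    intro I _ hI
    subst hI
    exact h
  exact hgen _ hc.symm

theorem cm_base_of_laurent (p : Ideal A) [p.IsPrime]
    (h : ∀ (P : Ideal A[T;T⁻¹]) [P.IsPrime], P.comap (algebraMap A A[T;T⁻¹]) = p →
      _root_.LocCoh.IsCohenMacaulayLocalRing (Localization.AtPrime P)) :
    _root_.LocCoh.IsCohenMacaulayLocalRing (Localization.AtPrime p) := by
  haveI : IsNoetherianRing A[T;T⁻¹] :=
    IsLocalization.isNoetherianRing (Submonoid.powers (Polynomial.X : Polynomial A)) _ inferInstance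
  haveI : Module.Free A A[T;T⁻¹] :=
    Module.Free.of_basis (Module.Basis.ofRepr (AddMonoidAlgebra.coeffLinearEquiv A))
  haveI : Nontrivial A := ⟨⟨0, 1, fun e => p.ne_top_iff_one.1 (Ideal.IsPrime.ne_top inferInstance) (e ▸ p.zero_mem)⟩⟩
  obtain ⟨q, hq, hqp, h0, hd0⟩ := CommAlg6.exists_minimal_over (B := A[T;T⁻¹]) p
  obtain ⟨h1, h2, -, -⟩ := CommAlg6.local_fibre (A := A) q
  have hc := h q hqp
  rw [CAlgH3.isCohenMacaulayLocalRing_iff_depth, h1, h2, h0, hd0, add_zero, add_zero,
    ← CAlgH3.isCohenMacaulayLocalRing_iff_depth] at hc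
  subst hqp
  exact hc

/-- `cm_quot_iff` along a surjection. -/
theorem cm_surj_iff {R G : Type u} [CommRing R] [IsNoetherianRing R] [CommRing G] {φ : R →+* G}
    (hφ : Function.Surjective φ) {x : R} (hx : IsSMulRegular R x) (hker : RingHom.ker φ = Ideal.span {x})
    (p : Ideal G) [p.IsPrime] :
    _root_.LocCoh.IsCohenMacaulayLocalRing (Localization.AtPrime p) ↔
      _root_.LocCoh.IsCohenMacaulayLocalRing (Localization.AtPrime (p.comap φ)) := by
  let e : (R ⧸ Ideal.span {x}) ≃+* G :=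
    (Ideal.quotEquivOfEq hker.symm).trans (RingHom.quotientKerEquivOfSurjective hφ)
  let q := p.comap (e : R ⧸ Ideal.span {x} →+* G)
  have hq : q.comap (Ideal.Quotient.mk (Ideal.span {x})) = p.comap φ := rfl
  have hmap : q.primeCompl.map e.toMonoidHom = p.primeCompl := by
    ext y
    constructor
    · rintro ⟨z, hz, rfl⟩; exact hz
    · exact fun hy => ⟨e.symm y, fun h => hy (by simpa [q] using h), e.apply_symm_apply y⟩
  let E : Localization.AtPrime q ≃+* Localization.AtPrime p :=
    IsLocalization.ringEquivOfRingEquiv _ _ e hmap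
  have h := cm_quot_iff x q hx
  have hgen : ∀ (P : Ideal R) [P.IsPrime], P = p.comap φ →
      (_root_.LocCoh.IsCohenMacaulayLocalRing (Localization.AtPrime P) ↔
        _root_.LocCoh.IsCohenMacaulayLocalRing (Localization.AtPrime (p.comap φ))) := by
    intro P _ hP
    subst hP
    exact Iff.rfl
  rw [← hgen _ hq, ← h]
  exact ⟨fun h => CAlgH3.isCohenMacaulayLocalRing_of_ringEquiv (h := h) E.symm,
    fun h => CAlgH3.isCohenMacaulayLocalRing_of_ringEquiv (h := h) E⟩

variable (𝓕 : _root_.FiltBl.IdealFiltration A)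

theorem cm_off_iff (h1 : IsNoetherianRing 𝓕.extRees) {G : Type u} [CommRing G] (φ : 𝓕.extRees →+* G)
    (hφ : Function.Surjective φ) (hker : RingHom.ker φ = Ideal.span {𝓕.u}) (Rp : Ideal 𝓕.extRees)
    (hRp : Rp = Ideal.span {x : 𝓕.extRees | ∃ n : ℕ, 0 < n ∧ ∃ a ∈ 𝓕.F n,
      (x : LaurentPolynomial A) = LaurentPolynomial.C a * LaurentPolynomial.T (n : ℤ)}) :
    (∀ (P : Ideal 𝓕.extRees) [P.IsPrime], ¬ Rp ≤ P →
        _root_.LocCoh.IsCohenMacaulayLocalRing (Localization.AtPrime P)) ↔
      ((∀ (p : Ideal G) [p.IsPrime], ¬ Ideal.map φ Rp ≤ p →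
          _root_.LocCoh.IsCohenMacaulayLocalRing (Localization.AtPrime p)) ∧
        (∀ (q : Ideal A) [q.IsPrime], ¬ 𝓕.F 1 ≤ q →
            _root_.LocCoh.IsCohenMacaulayLocalRing (Localization.AtPrime q))) := by
  constructor
  · intro h
    refine ⟨fun p _ hp => (cm_surj_iff hφ (isSMulRegular_u 𝓕) hker p).2
      (h _ fun h' => hp (Ideal.map_le_iff_le_comap.2 h')), fun q _ hq => ?_⟩
    refine cm_base_of_laurent q fun P _ hP => (cm_comap_iff (Submonoid.powers 𝓕.u) P _ rfl).1 (h _ ?_)
    intro hle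
    obtain ⟨a, ha, haq⟩ := SetLike.not_le_iff_exists.1 hq
    have hmem : mono 𝓕 ((1 : ℕ) : ℤ) a (by simpa using ha) ∈ Rp := by
      rw [hRp]
      exact Ideal.subset_span ⟨1, one_pos, a, ha, rfl⟩
    have h2 : C a * T ((1 : ℕ) : ℤ) ∈ P := hle hmem
    rw [Ideal.mul_unit_mem_iff_mem _ (isUnit_T _)] at h2
    exact haq (hP ▸ h2)
  · rintro ⟨hG, hA⟩ P _ hP
    by_cases huP : 𝓕.u ∈ P
    · have hle : RingHom.ker φ ≤ P := by rw [hker]; exact (Ideal.span_singleton_le_iff_mem _).2 huP
      haveI := Ideal.map_isPrime_of_surjective hφ hle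
      have hc : (P.map φ).comap φ = P := by
        rw [Ideal.comap_map_of_surjective _ hφ, ← RingHom.ker_eq_comap_bot, sup_eq_left.2 hle]
      have h2 := (cm_surj_iff hφ (isSMulRegular_u 𝓕) hker (P.map φ)).1
        (hG _ fun h' => hP (le_of_le_of_eq (Ideal.map_le_iff_le_comap.1 h') hc))
      have hgen : ∀ (P₁ : Ideal 𝓕.extRees) [P₁.IsPrime], P₁ = P →
          _root_.LocCoh.IsCohenMacaulayLocalRing (Localization.AtPrime P₁) →
          _root_.LocCoh.IsCohenMacaulayLocalRing (Localization.AtPrime P) := by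
        intro P₁ _ hP₁ h'
        subst hP₁
        exact h'
      exact hgen _ hc h2
    · have disj : Disjoint (Submonoid.powers 𝓕.u : Set 𝓕.extRees) P := by
        rw [Set.disjoint_left]
        rintro x ⟨n, rfl⟩ hx
        exact huP (Ideal.IsPrime.mem_of_pow_mem inferInstance n hx)
      haveI : (P.map (algebraMap 𝓕.extRees A[T;T⁻¹])).IsPrime :=
        IsLocalization.isPrime_of_isPrime_disjoint (Submonoid.powers 𝓕.u) _ _ inferInstance disj
      have hc : (P.map (algebraMap 𝓕.extRees A[T;T⁻¹])).comap (algebraMap 𝓕.extRees A[T;T⁻¹]) = P :=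
        IsLocalization.under_map_of_isPrime_disjoint (Submonoid.powers 𝓕.u) _ inferInstance disj
      refine (cm_comap_iff (Submonoid.powers 𝓕.u) _ P hc).2 (cm_laurent_atPrime _ (hA _ fun hle => hP ?_))
      rw [hRp, Ideal.span_le]
      rintro x ⟨n, hn, a, ha, hx⟩
      rw [← hc]
      change (x : A[T;T⁻¹]) ∈ P.map (algebraMap 𝓕.extRees A[T;T⁻¹])
      rw [hx]
      exact Ideal.mul_mem_right _ _ (hle (𝓕.antitone hn ha))

end Groth.Agent.CohDer1.FiltBl
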