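import Groth.Agent.CohDer1.FiltBl.ConeNormal
import Groth.Agent.EGA41Lib.SemiLocalSop

/-! `Ḡ/G` and the first local cohomology of a graded domain. -/

set_option autoImplicit false

universe u

open IsLocalRing RingTheory.Sequence

namespace Groth.Agent.CohDer1.FiltBl

section closure

variable {G : Type u} [CommRing G] [IsDomain G] {L : Type u} [Field L] [Algebra G L] [IsFractionRing G L]

/-- A prime is in the normal locus iff some element outside it conducts the normalisation into the ring. -/
theorem isIntegrallyClosed_of_conductor (p : Ideal G) [p.IsPrime] {s : G} (hs : s ∉ p)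
    (h : ∀ y : integralClosure G L, ∃ g : G, algebraMap G L g = s • (y : L)) :
    IsIntegrallyClosed (Localization.AtPrime p) := by
  letI : Algebra (Localization.AtPrime p) L :=
    (IsLocalization.lift (M := p.primeCompl) (g := algebraMap G L) fun t =>
      (isUnit_iff_ne_zero.2 ((map_ne_zero_iff _ (IsFractionRing.injective G L)).2
        (nonZeroDivisors.ne_zero (Ideal.primeCompl_le_nonZeroDivisors p t.2))))).toAlgebra
  haveI : IsScalarTower G (Localization.AtPrime p) L :=
    IsScalarTower.of_algebraMap_eq fun g => (IsLocalization.lift_eq _ g).symm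
  haveI : IsFractionRing (Localization.AtPrime p) L :=
    IsFractionRing.isFractionRing_of_isDomain_of_isLocalization p.primeCompl _ L
  haveI : IsDomain (Localization.AtPrime p) :=
    IsLocalization.isDomain_localization (Ideal.primeCompl_le_nonZeroDivisors p)
  rw [isIntegrallyClosed_iff L]
  intro z hz
  obtain ⟨⟨t, ht⟩, htz⟩ := IsIntegral.exists_multiple_integral_of_isLocalization p.primeCompl z hz
  obtain ⟨g, hg⟩ := h ⟨_, htz⟩
  have hst : s * t ∈ p.primeCompl := p.primeCompl.mul_mem hs ht
  refine ⟨IsLocalization.mk' _ g ⟨s * t, hst⟩, ?_⟩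
  have hu : algebraMap G L (s * t) ≠ 0 :=
    (map_ne_zero_iff _ (IsFractionRing.injective G L)).2
      (nonZeroDivisors.ne_zero (Ideal.primeCompl_le_nonZeroDivisors p hst))
  refine mul_left_cancel₀ hu ?_
  have h2 : algebraMap G L (s * t) * z = algebraMap G L g := by
    rw [hg]
    change _ = s • (t • z)
    rw [Algebra.smul_def, Algebra.smul_def, map_mul, mul_assoc]
  rw [h2, IsScalarTower.algebraMap_apply G (Localization.AtPrime p) L (s * t), ← map_mul]
  rw [show algebraMap G (Localization.AtPrime p) (s * t) * IsLocalization.mk' (Localization.AtPrime p) g ⟨s * t, hst⟩ =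
    algebraMap G (Localization.AtPrime p) g from IsLocalization.mk'_spec' (M := p.primeCompl) (Localization.AtPrime p) g ⟨s * t, hst⟩, ← IsScalarTower.algebraMap_apply]

theorem exists_conductor_of_isIntegrallyClosed (p : Ideal G) [p.IsPrime]
    [hn : IsIntegrallyClosed (Localization.AtPrime p)] (y : integralClosure G L) :
    ∃ s ∉ p, ∃ g : G, algebraMap G L g = s • (y : L) := by
  letI : Algebra (Localization.AtPrime p) L :=
    (IsLocalization.lift (M := p.primeCompl) (g := algebraMap G L) fun t =>
      (isUnit_iff_ne_zero.2 ((map_ne_zero_iff _ (IsFractionRing.injective G L)).2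
        (nonZeroDivisors.ne_zero (Ideal.primeCompl_le_nonZeroDivisors p t.2))))).toAlgebra
  haveI : IsScalarTower G (Localization.AtPrime p) L :=
    IsScalarTower.of_algebraMap_eq fun g => (IsLocalization.lift_eq _ g).symm
  haveI : IsFractionRing (Localization.AtPrime p) L :=
    IsFractionRing.isFractionRing_of_isDomain_of_isLocalization p.primeCompl _ L
  haveI : IsDomain (Localization.AtPrime p) :=
    IsLocalization.isDomain_localization (Ideal.primeCompl_le_nonZeroDivisors p)
  obtain ⟨w, hw⟩ := IsIntegrallyClosed.isIntegral_iff.1 (y.2.tower_top : IsIntegral (Localization.AtPrime p) (y : L))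
  obtain ⟨g, t, rfl⟩ := IsLocalization.exists_mk'_eq p.primeCompl w
  refine ⟨t, t.2, g, ?_⟩
  rw [Algebra.smul_def, ← hw, IsScalarTower.algebraMap_apply G (Localization.AtPrime p) L,
    IsScalarTower.algebraMap_apply G (Localization.AtPrime p) L, ← map_mul, IsLocalization.mk'_spec']

end closure

variable {k : Type u} [Field k] {G : Type u} [CommRing G] [IsDomain G] [Algebra k G] [IsNoetherianRing G]
  (𝒢 : ℕ → Submodule k G) [GradedAlgebra 𝒢]
  (h0 : ∀ x ∈ 𝒢 0, x ∈ Set.range (algebraMap k G)) (hdim : 2 ≤ ringKrullDim G)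
  (L : Type u) [Field L] [Algebra G L] [IsFractionRing G L]

/-- `Ḡ/G`. -/
abbrev NQ (G : Type u) [CommRing G] (L : Type u) [Field L] [Algebra G L] : Type u := ↥(integralClosure G L) ⧸ LinearMap.range (Algebra.linearMap G ↥(integralClosure G L))

omit [IsDomain G] [IsNoetherianRing G] [IsFractionRing G L] in
lemma mk_eq_zero_iff' (y : integralClosure G L) :
    (Submodule.Quotient.mk y : (NQ G L)) = 0 ↔ ∃ g : G, algebraMap G L g = (y : L) := by
  rw [Submodule.Quotient.mk_eq_zero, LinearMap.mem_range]
  exact exists_congr fun g => ⟨fun h => congrArg Subtype.val h, fun h => Subtype.ext h⟩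

include h0 hdim in
theorem conductor_of_isFiniteLength (hfin : IsFiniteLength G (NQ G L)) (p : Ideal G) [p.IsPrime] (hp : ¬ p.IsMaximal) :
    IsIntegrallyClosed (Localization.AtPrime p) := by
  haveI := finite_integralClosure 𝒢 h0 L
  have h1 := (EGA41Lib.isFiniteLength_iff_supportDim_le_zero (NQ G L)).1 hfin
  rw [Module.supportDim_eq_ringKrullDim_quotient_annihilator] at h1
  obtain ⟨s, hs, hsp⟩ : ∃ s ∈ Module.annihilator G (NQ G L), s ∉ p := by
    by_contra! hle
    haveI : Ring.KrullDimLE 0 (G ⧸ Module.annihilator G (NQ G L)) := (Ring.krullDimLE_iff).2 h1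
    have hker : RingHom.ker (Ideal.Quotient.mk (Module.annihilator G (NQ G L))) ≤ p := by rw [Ideal.mk_ker]; exact hle
    haveI := Ideal.map_isPrime_of_surjective Ideal.Quotient.mk_surjective hker
    haveI := Ring.krullDimLE_zero_iff.1 (inferInstance : Ring.KrullDimLE 0 (G ⧸ Module.annihilator G (NQ G L)))
      (p.map (Ideal.Quotient.mk (Module.annihilator G (NQ G L)))) inferInstance
    have hmax := Ideal.comap_isMaximal_of_surjective (Ideal.Quotient.mk (Module.annihilator G (NQ G L)))
      Ideal.Quotient.mk_surjective (K := p.map (Ideal.Quotient.mk (Module.annihilator G (NQ G L))))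
    rw [Ideal.comap_map_of_surjective _ Ideal.Quotient.mk_surjective, ← RingHom.ker_eq_comap_bot,
      sup_eq_left.2 hker] at hmax
    exact hp hmax
  refine isIntegrallyClosed_of_conductor (L := L) p hsp fun y => (mk_eq_zero_iff' L (s • y)).1 ?_
  rw [Submodule.Quotient.mk_smul]
  exact Module.mem_annihilator.1 hs _

include h0 in
theorem isFiniteLength_of_normal (h : ∀ (p : Ideal G) [p.IsPrime], ¬ (HomogeneousIdeal.irrelevant 𝒢).toIdeal ≤ p →
    IsIntegrallyClosed (Localization.AtPrime p)) : IsFiniteLength G (NQ G L) := by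
  haveI := finite_integralClosure 𝒢 h0 L
  haveI := W4Gr15.irrelevant_isMaximal 𝒢 h0
  rw [EGA41Lib.isFiniteLength_iff_supportDim_le_zero, Module.supportDim, Order.krullDim_nonpos_iff_forall_isMax]
  have key : ∀ x : Module.support G (NQ G L), x.1.asIdeal = (HomogeneousIdeal.irrelevant 𝒢).toIdeal := by
    intro x
    have hx : (HomogeneousIdeal.irrelevant 𝒢).toIdeal ≤ x.1.asIdeal := by
      by_contra hle
      haveI := h x.1.asIdeal hle
      obtain ⟨m, hm⟩ := Module.mem_support_iff'.1 x.2
      obtain ⟨y, rfl⟩ := Submodule.Quotient.mk_surjective _ m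
      obtain ⟨s, hs, g, hg⟩ := exists_conductor_of_isIntegrallyClosed x.1.asIdeal y
      refine hm s hs ?_
      rw [← Submodule.Quotient.mk_smul]
      exact (mk_eq_zero_iff' L _).2 ⟨g, hg⟩
    exact (Ideal.IsMaximal.eq_of_le inferInstance x.1.2.ne_top hx).symm
  intro x y hxy
  exact le_of_eq (Subtype.ext (PrimeSpectrum.ext ((key y).trans (key x).symm)))

include h0 hdim in
theorem normal_punctured_iff :
    (∀ (p : Ideal G) [p.IsPrime], ¬ (HomogeneousIdeal.irrelevant 𝒢).toIdeal ≤ p →
        IsIntegrallyClosed (Localization.AtPrime p)) ↔ IsFiniteLength G (NQ G L) :=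
  ⟨fun h => isFiniteLength_of_normal 𝒢 h0 L h, fun h p _ hp =>
    normal_of_nonmaximal 𝒢 h0 hdim (fun q _ hq => conductor_of_isFiniteLength 𝒢 h0 hdim L h q hq) p hp⟩

include h0 hdim in
/-- The normalisation has depth at least two at the vertex. -/
theorem two_le_depth_integralClosure :
    ((2 : ℕ) : ℕ∞) ≤ _root_.LocCoh.idealDepth (HomogeneousIdeal.irrelevant 𝒢).toIdeal ↥(integralClosure G L) := by
  haveI := finite_integralClosure 𝒢 h0 L
  haveI hImax := W4Gr15.irrelevant_isMaximal 𝒢 h0
  haveI := W4Gr15.finiteType_of_graded 𝒢 h0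
  set I := (HomogeneousIdeal.irrelevant 𝒢).toIdeal
  let N := integralClosure G L
  haveI : IsFractionRing N L := IsIntegralClosure.isFractionRing_of_finite_extension G L L N
  haveI : IsIntegrallyClosed N := integralClosure.isIntegrallyClosedOfFiniteExtension L
  haveI : IsNoetherianRing N := isNoetherian_of_tower G (inferInstance : IsNoetherian G N)
  haveI : Algebra.IsIntegral G N := Algebra.IsIntegral.of_finite G N
  letI : Algebra k N := ((algebraMap G N).comp (algebraMap k G)).toAlgebra
  haveI : IsScalarTower k G N := IsScalarTower.of_algebraMap_eq fun _ => rfl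
  haveI : Algebra.FiniteType k N :=
    Algebra.FiniteType.trans (S := G) inferInstance (Module.Finite.finiteType N)
  have hinj : Function.Injective (algebraMap G N) := fun a b h =>
    IsFractionRing.injective G L (congrArg Subtype.val h)
  have hS2 : _root_.LocCoh.HasSk 2 N N := ((CAlgH3.normal_localization_iff (R := N)).1 fun p _ =>
    ⟨IsLocalization.isDomain_localization (Ideal.primeCompl_le_nonZeroDivisors p),
      isIntegrallyClosed_of_isLocalization (Localization.AtPrime p) p.primeCompl
        (Ideal.primeCompl_le_nonZeroDivisors p)⟩).2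
  have hJ : ∀ P : Ideal N, P.IsPrime → I.map (algebraMap G N) ≤ P → 2 ≤ P.height := by
    intro P hP hle
    have hPc : P.comap (algebraMap G N) = I :=
      (hImax.eq_of_le (Ideal.comap_ne_top _ hP.ne_top) (Ideal.map_le_iff_le_comap.1 hle)).symm
    haveI : P.IsMaximal := Ideal.isMaximal_of_isIntegral_of_isMaximal_comap P (hPc ▸ hImax)
    have h1 := DimLib.height_eq_of_isMaximal (k := k) P
    rw [← DimLib.ringKrullDim_eq_of_isIntegral (R := G) (S := N) hinj] at h1
    rw [← h1] at hdim
    exact WithBot.coe_le_coe.1 hdim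
  obtain ⟨x, hxI, hx0⟩ : ∃ x ∈ I, x ≠ 0 := by
    refine Submodule.exists_mem_ne_zero_of_ne_bot fun h => ?_
    have := two_le_height_of_isMaximal 𝒢 h0 hdim I
    rw [show I = ⊥ from h, Ideal.height_bot] at this
    exact absurd this (by decide)
  have hxN : IsSMulRegular N (algebraMap G N x) := fun a b h =>
    mul_left_cancel₀ (fun e => hx0 (hinj (e.trans (map_zero _).symm))) h
  obtain ⟨y, hyI, hy⟩ : ∃ y ∈ I, IsSMulRegular (QuotSMulTop x N) y := by
    classical
    by_contra! hcon
    haveI : Nontrivial (QuotSMulTop x N) := by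
      by_contra hsub
      rw [not_nontrivial_iff_subsingleton] at hsub
      exact hcon 0 I.zero_mem fun a b _ => Subsingleton.elim a b
    have hsub : (I : Set G) ⊆ ⋃ q ∈ ((associatedPrimes.finite G (QuotSMulTop x N)).toFinset : Set (Ideal G)), (q : Set G) := by
      intro a ha
      rw [Set.Finite.coe_toFinset, biUnion_associatedPrimes_eq_zero_divisors]
      by_contra hz
      exact hcon a ha fun u v huv => sub_eq_zero.1 (by
        by_contra hne
        exact hz ⟨u - v, hne, by rw [smul_sub]; exact sub_eq_zero.2 huv⟩)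
    obtain ⟨q, hq, hIq⟩ := (Ideal.subset_union_prime ⊥ ⊥ fun q hq _ _ =>
      ((associatedPrimes.finite G (QuotSMulTop x N)).mem_toFinset.1 hq).isPrime).1 hsub
    rw [Set.Finite.mem_toFinset] at hq
    haveI := hq.isPrime
    obtain ⟨-, z, hz⟩ := isAssociatedPrime_iff.1 hq
    obtain ⟨z, rfl⟩ := Submodule.Quotient.mk_surjective _ z
    have hspan : ∀ w : N, (Submodule.Quotient.mk w : QuotSMulTop x N) = 0 ↔
        w ∈ Ideal.span {algebraMap G N x} := fun w => by
      rw [Submodule.Quotient.mk_eq_zero, Submodule.mem_smul_pointwise_iff_exists, Ideal.mem_span_singleton']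
      constructor
      · rintro ⟨v, -, rfl⟩; exact ⟨v, by rw [Algebra.smul_def, mul_comm]⟩
      · rintro ⟨v, rfl⟩; exact ⟨v, trivial, by rw [Algebra.smul_def, mul_comm]⟩
    have hzmem : z ∈ Ideal.span {algebraMap G N x} := by
      refine mem_span_of_colon hS2 hxN (I.map (algebraMap G N)) (fun P hP hle _ => hJ P hP hle) fun j hj => ?_
      refine Submodule.mem_colon_singleton.1 ((show I.map (algebraMap G N) ≤ (Ideal.span {algebraMap G N x}).colon {z} from
        Ideal.map_le_iff_le_comap.2 fun i hi => Submodule.mem_colon_singleton.2 ?_) hj)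
      have h1 : i ∈ q := hIq hi
      rw [hz, Submodule.mem_colon_singleton, Submodule.mem_bot, ← Submodule.Quotient.mk_smul, hspan,
        Algebra.smul_def] at h1
      exact h1
    refine hq.isPrime.ne_top ((Ideal.eq_top_iff_one _).2 ?_)
    rw [hz, Submodule.mem_colon_singleton, one_smul, Submodule.mem_bot, hspan]
    exact hzmem
  have hxG : IsSMulRegular N x := fun a b h => hxN (by simpa [Algebra.smul_def] using h)
  have hne : I • (⊤ : Submodule G N) ≠ ⊤ := by
    intro h
    obtain ⟨P, hP, hPc⟩ := Ideal.exists_ideal_over_maximal_of_isIntegral I (S := N)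
      (by rw [(RingHom.injective_iff_ker_eq_bot _).1 hinj]; exact bot_le)
    rw [Ideal.smul_top_eq_map] at h
    have h2 : (1 : N) ∈ (I.map (algebraMap G N)).restrictScalars G := by rw [h]; trivial
    exact hP.ne_top ((Ideal.eq_top_iff_one _).2
      (Ideal.map_le_iff_le_comap.2 hPc.ge (Submodule.restrictScalars_mem _ _ _ |>.1 h2)))
  rw [LocCoh.natCast_le_idealDepth_iff_exists _ _ hne]
  refine ⟨[x, y], le_rfl, by simp [hxI, hyI], ?_, fun h => hne (top_le_iff.1 (h.le.trans ?_))⟩
  · rw [isWeaklyRegular_cons_iff, isWeaklyRegular_singleton_iff]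
    exact ⟨hxG, hy⟩
  · exact Submodule.smul_mono_left (Ideal.span_le.2 fun z hz => by simp only [List.mem_cons, List.not_mem_nil, or_false, Set.mem_setOf_eq] at hz; rcases hz with rfl | rfl <;> assumption)

include h0 hdim in
/-- `Ḡ/G ≅ H¹_{G₊}(G)` when it has finite length. -/
theorem nonempty_equiv_H_one (hfin : IsFiniteLength G (NQ G L)) :
    Nonempty ((NQ G L) ≃ₗ[G] _root_.LocCoh.H (HomogeneousIdeal.irrelevant 𝒢).toIdeal 1 G) := by
  haveI := finite_integralClosure 𝒢 h0 L
  haveI hImax := W4Gr15.irrelevant_isMaximal 𝒢 h0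
  set I := (HomogeneousIdeal.irrelevant 𝒢).toIdeal
  let f : G →ₗ[G] integralClosure G L := Algebra.linearMap G _
  have hf : Function.Injective f := fun a b h => IsFractionRing.injective G L (congrArg Subtype.val h)
  have hg : Function.Surjective (LinearMap.range f).mkQ := Submodule.mkQ_surjective _
  have hfg : Function.Exact f (LinearMap.range f).mkQ := LinearMap.exact_map_mkQ_range f
  have hd := (LocCoh.natCast_le_idealDepth_iff_H I ↥(integralClosure G L) 2).1
    (two_le_depth_integralClosure 𝒢 h0 hdim L)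
  haveI := hd 0 (by omega)
  haveI := hd (0 + 1) (by omega)
  have hδ : Function.Bijective (LocCoh.connecting I hf hg hfg 0) := by
    constructor
    · refine (injective_iff_map_eq_zero _).2 fun a ha => ?_
      obtain ⟨b, rfl⟩ := (LocCoh.Hmap_connecting_exact (I := I) hf hg hfg 0 a).1 ha
      rw [Subsingleton.elim b 0, map_zero]
    · intro c
      exact (LocCoh.connecting_Hmap_exact (I := I) hf hg hfg 0 c).1 (Subsingleton.elim _ _)
  have htor : LocCoh.powTorsion I (NQ G L) = ⊤ := by
    have hrad : I ≤ (Module.annihilator G (NQ G L)).radical := by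
      rw [Ideal.radical_eq_sInf]
      refine le_sInf ?_
      rintro p ⟨hann, hp⟩
      haveI := hp
      by_contra hle
      haveI := (normal_punctured_iff 𝒢 h0 hdim L).2 hfin p hle
      have hpm : (⟨p, hp⟩ : PrimeSpectrum G) ∈ Module.support G (NQ G L) := Module.mem_support_iff_of_finite.2 hann
      obtain ⟨m, hm⟩ := Module.mem_support_iff'.1 hpm
      obtain ⟨y, rfl⟩ := Submodule.Quotient.mk_surjective _ m
      obtain ⟨s, hs, g, hg⟩ := exists_conductor_of_isIntegrallyClosed p y
      refine hm s hs ?_
      rw [← Submodule.Quotient.mk_smul]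
      exact (mk_eq_zero_iff' L _).2 ⟨g, hg⟩
    obtain ⟨n, hn⟩ := Ideal.exists_pow_le_of_le_radical_of_fg hrad (IsNoetherian.noetherian I)
    exact eq_top_iff.2 fun m _ => ⟨n, fun a ha => Module.mem_annihilator.1 (hn ha) m⟩
  exact ⟨((LinearEquiv.ofTop _ htor).symm.trans (LocCoh.H0Equiv I (NQ G L)).symm).trans (LinearEquiv.ofBijective _ hδ)⟩

end Groth.Agent.CohDer1.FiltBl
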