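import Groth.Agent.CohDer1.FiltBl.ProjStalk
import Mathlib.RingTheory.IntegralClosure.IntegrallyClosed

/-! Normality of the local rings of `Proj`. -/

set_option autoImplicit false

universe u

open AlgebraicGeometry

namespace Groth.Agent.CohDer1.FiltBl

/-- A subring whose principal ideals are contracted inherits integral closedness. -/
theorem isIntegrallyClosed_of_contracted {R S : Type u} [CommRing R] [CommRing S] [IsDomain R] [IsDomain S]
    [IsIntegrallyClosed S] (φ : R →+* S) (hφ : Function.Injective φ)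
    (hc : ∀ a : R, ((Ideal.span {a}).map φ).comap φ ≤ Ideal.span {a}) : IsIntegrallyClosed R := by
  let K := FractionRing R
  let F := FractionRing S
  rw [isIntegrallyClosed_iff K]
  intro z hz
  obtain ⟨y, a, ha, rfl⟩ := IsFractionRing.div_surjective (A := R) z
  let ψ : K →+* F := IsFractionRing.lift (g := (algebraMap S F).comp φ)
    ((IsFractionRing.injective S F).comp hφ)
  have hψ : ∀ r, ψ (algebraMap R K r) = algebraMap S F (φ r) := fun r => IsFractionRing.lift_algebraMap _ r
  obtain ⟨f, hf, hroot⟩ := hz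
  have hint : IsIntegral S (ψ (algebraMap R K y / algebraMap R K a)) := by
    refine ⟨f.map φ, hf.map φ, ?_⟩
    rw [Polynomial.eval₂_map]
    have := congrArg ψ hroot
    rwa [Polynomial.hom_eval₂, map_zero, show ψ.comp (algebraMap R K) = (algebraMap S F).comp φ from
      RingHom.ext hψ] at this
  obtain ⟨s, hs⟩ := IsIntegrallyClosed.isIntegral_iff.1 hint
  have ha0 : a ≠ 0 := nonZeroDivisors.ne_zero ha
  have haF : algebraMap S F (φ a) ≠ 0 := by
    rw [Ne, IsFractionRing.to_map_eq_zero_iff]
    exact (map_ne_zero_iff φ hφ).2 ha0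
  rw [map_div₀, hψ, hψ, eq_div_iff haF, ← map_mul] at hs
  have hmem : y ∈ Ideal.span {a} := hc a (by
    rw [Ideal.mem_comap, Ideal.map_span, Set.image_singleton, ← IsFractionRing.injective S F hs]
    exact Ideal.mul_mem_left _ _ (Ideal.mem_span_singleton_self _))
  obtain ⟨r, rfl⟩ := Ideal.mem_span_singleton'.1 hmem
  exact ⟨r, by rw [map_mul, mul_div_cancel_right₀ _ ((map_ne_zero_iff _ (IsFractionRing.injective R K)).2 ha0)]⟩

theorem normal_stalk {A : Type u} [CommRing A] (𝒜 : ℕ → AddSubgroup A) [GradedRing 𝒜]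
    (hA : ∀ (p : Ideal A) [p.IsPrime], IsDomain (Localization.AtPrime p) ∧
      IsIntegrallyClosed (Localization.AtPrime p))
    (x : Proj 𝒜) :
    IsDomain ((Proj 𝒜).presheaf.stalk x) ∧ IsIntegrallyClosed ((Proj 𝒜).presheaf.stalk x) := by
  haveI := x.isPrime
  set p := x.asHomogeneousIdeal.toIdeal
  obtain ⟨h1, h2⟩ := hA p
  have hinj : Function.Injective (algebraMap (HomogeneousLocalization.AtPrime 𝒜 p) (Localization.AtPrime p)) :=
    fun a b h => HomogeneousLocalization.val_injective _ h
  haveI : IsDomain (HomogeneousLocalization.AtPrime 𝒜 p) := Function.Injective.isDomain _ hinj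
  haveI := isIntegrallyClosed_of_contracted _ hinj fun a => comap_map_le 𝒜 p (Ideal.span {a})
  exact ⟨(Proj.stalkIso' 𝒜 x).toMulEquiv.isDomain _, IsIntegrallyClosed.of_equiv (Proj.stalkIso' 𝒜 x).symm⟩

end Groth.Agent.CohDer1.FiltBl
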