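import Groth.Agent.CAlgH3.CMRing
import Groth.Agent.CAlgH3.Depth
import Groth.Agent.CommAlg6.SerreOne
import Groth.Agent.CAlgH3.Serre
import Mathlib.RingTheory.GradedAlgebra.HomogeneousLocalization
import Mathlib.RingTheory.Regular.RegularSequence
import Mathlib.RingTheory.GradedAlgebra.Homogeneous.Ideal

/-! The degree zero part of a localisation of a graded ring at a homogeneous prime: purity. -/

set_option autoImplicit false

universe u

open HomogeneousLocalization IsLocalRing RingTheory.Sequence DirectSum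

namespace Groth.Agent.CohDer1.FiltBl

section seq

/-- A Cohen–Macaulay module has a maximal regular sequence from any subring whose maximal ideal is primary to
the maximal ideal. -/
theorem exists_regular_from_subring {R B : Type u} [CommRing R] [CommRing B] [IsLocalRing B] [IsNoetherianRing B]
    (φ : R →+* B) (m : Ideal R) (hne : m.map φ ≠ ⊤) (hm : ∀ q : Ideal B, q.IsPrime → m.map φ ≤ q → q = maximalIdeal B) :
    ∀ (h : ℕ) (M : Type u) [AddCommGroup M] [Module B M] [Module.Finite B M],
      _root_.LocCoh.IsCohenMacaulayModule B M → Module.supportDim B M = (h : WithBot ℕ∞) →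
      ∃ xs : List R, xs.length = h ∧ (∀ x ∈ xs, x ∈ m) ∧ IsWeaklyRegular M (xs.map φ) ∧
        Module.supportDim B (M ⧸ (Ideal.ofList (xs.map φ) • ⊤ : Submodule B M)) = 0 := by
  intro h
  induction h with
  | zero =>
    intro M _ _ _ _ hdim
    refine ⟨[], rfl, by simp, IsWeaklyRegular.nil B M, ?_⟩
    rw [Module.supportDim_eq_of_equiv (Submodule.quotEquivOfEqBot
      (Ideal.ofList (([] : List R).map φ) • ⊤ : Submodule B M) (by simp)), hdim]
    rfl
  | succ h ih =>
    intro M _ _ _ hcm hdim
    classical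
    haveI := CAlgH3.nontrivial_of_cm hcm
    have hnot : ∀ q ∈ associatedPrimes B M, ¬ m ≤ q.comap φ := by
      intro q hq hle
      have hq' := hm q hq.isPrime (Ideal.map_le_iff_le_comap.2 hle)
      subst hq'
      have h0 := CAlgH3.depth_eq_zero_iff.2 hq
      rw [_root_.LocCoh.IsCohenMacaulayModule, hdim, h0] at hcm
      norm_num at hcm
      exact absurd hcm (by exact_mod_cast Nat.succ_ne_zero h)
    obtain ⟨x, hxm, hx⟩ : ∃ x ∈ m, IsSMulRegular M (φ x) := by
      by_contra! hcon
      have hsub : (m : Set R) ⊆ ⋃ q ∈ ((associatedPrimes.finite B M).toFinset : Set (Ideal B)),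
          (q.comap φ : Set R) := by
        intro x hx
        have hz : φ x ∈ ⋃ q ∈ associatedPrimes B M, (q : Set B) := by
          rw [biUnion_associatedPrimes_eq_zero_divisors]
          by_contra hz
          refine hcon x hx fun a b hab => sub_eq_zero.1 ?_
          by_contra hne
          exact hz ⟨a - b, hne, by rw [smul_sub]; exact sub_eq_zero.2 hab⟩
        simp only [Set.mem_iUnion, Set.Finite.coe_toFinset] at hz ⊢
        obtain ⟨q, hq, hxq⟩ := hz
        exact ⟨q, hq, hxq⟩
      obtain ⟨q, hq, hle⟩ := (Ideal.subset_union_prime ⊥ ⊥ fun q hq _ _ => by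
        haveI := ((associatedPrimes.finite B M).mem_toFinset.1 hq).isPrime
        exact Ideal.comap_isPrime φ q).1 hsub
      exact hnot q ((associatedPrimes.finite B M).mem_toFinset.1 hq) hle
    have hmax : φ x ∈ maximalIdeal B := le_maximalIdeal hne (Ideal.mem_map_of_mem φ hxm)
    have hdim' : Module.supportDim B (QuotSMulTop (φ x) M) = (h : WithBot ℕ∞) := by
      have h1 := Module.supportDim_quotSMulTop_succ_eq_supportDim hx hmax
      rw [hdim, Nat.cast_succ] at h1
      exact CAlgH3.withBot_add_one_cancel h1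
    obtain ⟨xs, hlen, hmem, hreg, hzero⟩ := ih (QuotSMulTop (φ x) M)
      ((CAlgH3.isCohenMacaulayModule_quotSMulTop_iff hmax hx).2 hcm) hdim'
    refine ⟨x :: xs, by simp [hlen], List.forall_mem_cons.2 ⟨hxm, hmem⟩, ?_, ?_⟩
    · rw [List.map_cons, isWeaklyRegular_cons_iff]
      exact ⟨hx, hreg⟩
    · rw [List.map_cons,
        Module.supportDim_eq_of_equiv (Submodule.quotOfListConsSMulTopEquivQuotSMulTopInner M (φ x) (xs.map φ))]
      exact hzero

end seq

section pure

variable {A : Type u} [CommRing A] (𝒜 : ℕ → AddSubgroup A) [GradedRing 𝒜] (p : Ideal A) [p.IsPrime]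

local notation "R₀" => HomogeneousLocalization.AtPrime 𝒜 p
local notation "L" => Localization.AtPrime p

lemma exists_component_notMem {q : Ideal A} {a : A} (ha : a ∉ q) :
    ∃ e, (DirectSum.decompose 𝒜 a e : A) ∉ q := by
  classical
  by_contra! h
  exact ha (DirectSum.sum_support_decompose 𝒜 a ▸ sum_mem fun e _ => h e)

lemma algebraMap_mk_spec (c : HomogeneousLocalization.NumDenSameDeg 𝒜 p.primeCompl) :
    algebraMap R₀ L (HomogeneousLocalization.mk c) * algebraMap A L (c.den : A) = algebraMap A L (c.num : A) := by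
  rw [HomogeneousLocalization.algebraMap_apply, HomogeneousLocalization.val_mk, Localization.mk_eq_mk',
    IsLocalization.mk'_spec' (M := p.primeCompl) L (c.num : A) ⟨(c.den : A), c.den_mem⟩ |>.symm]
  ring

/-- An ideal of the degree zero part is contracted from the local ring. -/
theorem comap_map_le (I : Ideal R₀) : (I.map (algebraMap R₀ L)).comap (algebraMap R₀ L) ≤ I := by
  classical
  let T : Ideal A :=
    { carrier := {a | ∀ (b : A) (D : ℕ) (q : 𝒜 D) (hq : (q : A) ∈ p.primeCompl),
        HomogeneousLocalization.mk ⟨D, DirectSum.decompose 𝒜 (b * a) D, q, hq⟩ ∈ I}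
      add_mem' := fun {x y} hx hy b D q hq => by
        have h : (HomogeneousLocalization.mk ⟨D, DirectSum.decompose 𝒜 (b * (x + y)) D, q, hq⟩ : R₀) =
            HomogeneousLocalization.mk ⟨D, DirectSum.decompose 𝒜 (b * x) D, q, hq⟩ +
              HomogeneousLocalization.mk ⟨D, DirectSum.decompose 𝒜 (b * y) D, q, hq⟩ := by
          rw [HomogeneousLocalization.ext_iff_val, HomogeneousLocalization.val_add]
          simp only [HomogeneousLocalization.val_mk, Localization.add_mk_self, mul_add, DirectSum.decompose_add,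
            DirectSum.add_apply, AddSubgroup.coe_add]
        rw [h]
        exact I.add_mem (hx b D q hq) (hy b D q hq)
      zero_mem' := fun b D q hq => by
        have h : (HomogeneousLocalization.mk ⟨D, DirectSum.decompose 𝒜 (b * 0) D, q, hq⟩ : R₀) = 0 := by
          rw [HomogeneousLocalization.ext_iff_val, HomogeneousLocalization.val_mk, HomogeneousLocalization.val_zero,
            mul_zero, DirectSum.decompose_zero]
          exact Localization.mk_zero _
        rw [h]
        exact I.zero_mem
      smul_mem' := fun c x hx b D q hq => by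
        simp only [smul_eq_mul, ← mul_assoc]
        exact hx (b * c) D q hq }
  have hle : I.map (algebraMap R₀ L) ≤ T.map (algebraMap A L) := by
    refine Ideal.map_le_iff_le_comap.2 fun z hz => ?_
    obtain ⟨⟨D', n, q', hq'⟩, rfl⟩ := HomogeneousLocalization.mk_surjective z
    have hn : (n : A) ∈ T := by
      intro b D q hq
      by_cases hle : D' ≤ D
      · obtain ⟨E, rfl⟩ := Nat.exists_eq_add_of_le hle
        have hmem : (DirectSum.decompose 𝒜 b E : A) * (q' : A) ∈ 𝒜 (D' + E) := by
          rw [add_comm]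
          exact SetLike.mul_mem_graded (DirectSum.decompose 𝒜 b E).2 q'.2
        have h : (HomogeneousLocalization.mk ⟨D' + E, DirectSum.decompose 𝒜 (b * n) (D' + E), q, hq⟩ : R₀) =
            HomogeneousLocalization.mk ⟨D' + E, ⟨_, hmem⟩, q, hq⟩ * HomogeneousLocalization.mk ⟨D', n, q', hq'⟩ := by
          rw [HomogeneousLocalization.ext_iff_val, HomogeneousLocalization.val_mul, HomogeneousLocalization.val_mk,
            HomogeneousLocalization.val_mk, HomogeneousLocalization.val_mk, Localization.mk_mul,
            Localization.mk_eq_mk_iff, Localization.r_iff_exists]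
          refine ⟨1, ?_⟩
          rw [DirectSum.coe_decompose_mul_of_right_mem_of_le 𝒜 n.2 hle, Nat.add_sub_cancel_left]
          simp only [OneMemClass.coe_one, one_mul, Submonoid.coe_mul]
          ring
        rw [h]
        exact I.mul_mem_left _ hz
      · have h : (HomogeneousLocalization.mk ⟨D, DirectSum.decompose 𝒜 (b * n) D, q, hq⟩ : R₀) = 0 := by
          rw [HomogeneousLocalization.ext_iff_val, HomogeneousLocalization.val_mk, HomogeneousLocalization.val_zero]
          simp only [DirectSum.coe_decompose_mul_of_right_mem_of_not_le 𝒜 n.2 hle, Localization.mk_zero]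
        rw [h]
        exact I.zero_mem
    rw [Ideal.mem_comap]
    refine (Ideal.mul_unit_mem_iff_mem _ (IsLocalization.map_units L (⟨(q' : A), hq'⟩ : p.primeCompl))).1 ?_
    rw [algebraMap_mk_spec 𝒜 p ⟨D', n, q', hq'⟩]
    exact Ideal.mem_map_of_mem _ hn
  intro r hr
  obtain ⟨⟨D, n, q, hq⟩, rfl⟩ := HomogeneousLocalization.mk_surjective r
  have hn : algebraMap A L (n : A) ∈ T.map (algebraMap A L) := by
    rw [← algebraMap_mk_spec 𝒜 p ⟨D, n, q, hq⟩]
    exact Ideal.mul_mem_right _ _ (hle hr)
  obtain ⟨s, hs, hsn⟩ := (IsLocalization.algebraMap_mem_map_algebraMap_iff p.primeCompl L T _).1 hn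
  obtain ⟨e, he⟩ := exists_component_notMem 𝒜 hs
  have hsq : (DirectSum.decompose 𝒜 s e : A) * (q : A) ∈ 𝒜 (e + D) :=
    SetLike.mul_mem_graded (DirectSum.decompose 𝒜 s e).2 q.2
  have h1 := hsn 1 (e + D) ⟨_, hsq⟩ (p.primeCompl.mul_mem he hq)
  have h2 : (HomogeneousLocalization.mk ⟨D, n, q, hq⟩ : R₀) =
      HomogeneousLocalization.mk ⟨e + D, DirectSum.decompose 𝒜 (1 * (s * n)) (e + D), ⟨_, hsq⟩,
        p.primeCompl.mul_mem he hq⟩ := by
    rw [HomogeneousLocalization.ext_iff_val, HomogeneousLocalization.val_mk, HomogeneousLocalization.val_mk,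
      Localization.mk_eq_mk_iff, Localization.r_iff_exists]
    refine ⟨1, ?_⟩
    simp only [OneMemClass.coe_one, one_mul]
    rw [DirectSum.coe_decompose_mul_of_right_mem_of_le 𝒜 n.2 (Nat.le_add_left _ _), Nat.add_sub_cancel]
    ring
  rw [h2]
  exact h1

theorem map_injective : Function.Injective fun I : Ideal R₀ => I.map (algebraMap R₀ L) :=
  fun I J h => le_antisymm ((Ideal.le_comap_map).trans ((congrArg (Ideal.comap _) h).le.trans (comap_map_le 𝒜 p J)))
    ((Ideal.le_comap_map).trans ((congrArg (Ideal.comap _) h.symm).le.trans (comap_map_le 𝒜 p I)))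

theorem isNoetherianRing_atPrime [IsNoetherianRing A] : IsNoetherianRing R₀ := by
  haveI : IsNoetherianRing L := IsLocalization.isNoetherianRing p.primeCompl _ inferInstance
  rw [isNoetherianRing_iff, isNoetherian_iff']
  exact StrictMono.wellFoundedGT (f := fun I : Ideal R₀ => I.map (algebraMap R₀ L))
    ((Ideal.gc_map_comap (algebraMap R₀ L)).monotone_l.strictMono_of_injective (map_injective 𝒜 p))

theorem isWeaklyRegular_of_map (xs : List R₀) (h : IsWeaklyRegular L (xs.map (algebraMap R₀ L))) :
    IsWeaklyRegular R₀ xs := by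
  refine ⟨fun i hi => ?_⟩
  rw [isSMulRegular_quotient_iff_mem_of_smul_mem]
  intro x hx
  have hi' : i < (xs.map (algebraMap R₀ L)).length := by simpa using hi
  have h1 := h.regular_mod_prev i hi'
  rw [isSMulRegular_quotient_iff_mem_of_smul_mem] at h1
  simp only [smul_eq_mul, Ideal.mul_top] at hx h1 ⊢
  rw [← List.map_take, ← Ideal.map_ofList] at h1
  refine comap_map_le 𝒜 p _ (h1 (algebraMap R₀ L x) ?_)
  rw [List.getElem_map, ← map_mul]
  exact Ideal.mem_map_of_mem _ hx

theorem exists_homogeneous_power (hp : p.IsHomogeneous 𝒜) (hpos : ∃ D, ∃ g ∈ 𝒜 D, 0 < D ∧ g ∉ p)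
    (q : Ideal L) [q.IsPrime]
    (hq : (maximalIdeal R₀).map (algebraMap R₀ L) ≤ q) : q = maximalIdeal L := by
  classical
  refine le_antisymm (le_maximalIdeal (Ideal.IsPrime.ne_top inferInstance)) ?_
  rw [← Localization.AtPrime.map_eq_maximalIdeal, Ideal.map_le_iff_le_comap]
  intro a ha
  obtain ⟨D, g, hg, hD, hgp⟩ := hpos
  rw [← DirectSum.sum_support_decompose 𝒜 a]
  refine Ideal.sum_mem _ fun i _ => ?_
  have hai : (DirectSum.decompose 𝒜 a i : A) ∈ p := hp i ha
  let c : HomogeneousLocalization.NumDenSameDeg 𝒜 p.primeCompl :=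
    ⟨D * i, ⟨_, by simpa [smul_eq_mul] using SetLike.pow_mem_graded D (DirectSum.decompose 𝒜 a i).2⟩,
      ⟨g ^ i, by simpa [smul_eq_mul, mul_comm] using SetLike.pow_mem_graded i hg⟩,
      fun h => hgp (Ideal.IsPrime.mem_of_pow_mem inferInstance i h)⟩
  have hc : (HomogeneousLocalization.mk c : R₀) ∈ maximalIdeal R₀ := by
    rw [mem_maximalIdeal, mem_nonunits_iff]
    intro hu
    have h2 := (hu.map (algebraMap R₀ L)).mul (IsLocalization.map_units L (⟨(c.den : A), c.den_mem⟩ : p.primeCompl))
    rw [algebraMap_mk_spec] at h2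
    exact (IsLocalization.AtPrime.isUnit_to_map_iff L p _).1 h2 (Ideal.pow_mem_of_mem p hai D hD)
  have hmem : algebraMap A L ((DirectSum.decompose 𝒜 a i : A) ^ D) ∈ q := by
    rw [← algebraMap_mk_spec 𝒜 p c]
    exact q.mul_mem_right _ (hq (Ideal.mem_map_of_mem _ hc))
  rw [map_pow] at hmem
  exact Ideal.mem_comap.2 (Ideal.IsPrime.mem_of_pow_mem inferInstance D hmem)

end pure

end Groth.Agent.CohDer1.FiltBl
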