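import Groth.Agent.CohDer1.FiltBl.ProjPure
import Groth.Agent.LocCoh.Depth
import Groth.Agent.CommAlg6.GeomFib
import Mathlib.RingTheory.Ideal.KrullsHeightTheorem
import Mathlib.AlgebraicGeometry.ProjectiveSpectrum.Basic

/-! Cohen–Macaulayness and `(S₁)` of the local rings of `Proj`. -/

set_option autoImplicit false

universe u

open HomogeneousLocalization IsLocalRing RingTheory.Sequence DirectSum AlgebraicGeometry

namespace Groth.Agent.CohDer1.FiltBl

variable {A : Type u} [CommRing A] [IsNoetherianRing A] (𝒜 : ℕ → AddSubgroup A) [GradedRing 𝒜]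
  (p : Ideal A) [p.IsPrime]

local notation "R₀" => HomogeneousLocalization.AtPrime 𝒜 p
local notation "L" => Localization.AtPrime p

/-- The degree zero part of the localisation at a relevant homogeneous prime inherits Cohen–Macaulayness. -/
theorem cm_atPrime (hp : p.IsHomogeneous 𝒜) (hpos : ∃ D, ∃ g ∈ 𝒜 D, 0 < D ∧ g ∉ p)
    (hL : _root_.LocCoh.IsCohenMacaulayLocalRing L) : _root_.LocCoh.IsCohenMacaulayLocalRing R₀ := by
  classical
  haveI := isNoetherianRing_atPrime 𝒜 p
  set φ := algebraMap R₀ L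
  have hloc : ∀ a : R₀, IsUnit (φ a) → IsUnit a := fun a ha => (isUnit_iff_isUnit_val 𝒜 p a).1 ha
  have hne : (maximalIdeal R₀).map φ ≠ ⊤ := fun h => by
    have h1 := comap_map_le 𝒜 p (maximalIdeal R₀)
    rw [h, Ideal.comap_top] at h1
    exact (maximalIdeal.isMaximal R₀).ne_top (top_le_iff.1 h1)
  obtain ⟨d, hd⟩ := ENat.ne_top_iff_exists.1 (Ideal.height_ne_top (maximalIdeal.isMaximal L).ne_top)
  have hdim : Module.supportDim L L = (d : WithBot ℕ∞) := by
    rw [Module.supportDim_self_eq_ringKrullDim, ← maximalIdeal_height_eq_ringKrullDim, ← hd]; rfl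
  obtain ⟨xs, hlen, hmem, hreg, hzero⟩ := exists_regular_from_subring φ (maximalIdeal R₀) hne
    (fun q _ hq => exists_homogeneous_power 𝒜 p hp hpos q hq) d L
    ((CAlgH3.isCohenMacaulayLocalRing_iff L).1 hL) hdim
  have hreg' := isWeaklyRegular_of_map 𝒜 p xs hreg
  have hdep : (d : ℕ∞) ≤ _root_.LocCoh.depth R₀ R₀ := by
    rw [_root_.LocCoh.depth, LocCoh.natCast_le_idealDepth_iff_exists _ R₀
      (CAlgH3.maximal_smul_top_ne_top (R := R₀) (M := R₀))]
    refine ⟨xs, hlen.ge, hmem, hreg', fun h => ?_⟩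
    refine CAlgH3.maximal_smul_top_ne_top (R := R₀) (M := R₀) (top_le_iff.1 (h.le.trans ?_))
    exact Submodule.smul_mono_left (Ideal.span_le.2 fun x hx => hmem x hx)
  have hrad : ∀ P : Ideal R₀, P.IsPrime → Ideal.ofList xs ≤ P → P = maximalIdeal R₀ := by
    intro P hP hle
    refine le_antisymm (le_maximalIdeal hP.ne_top) fun a ha => ?_
    set J := (Ideal.ofList xs).map φ with hJ
    have hJdim : ringKrullDim (L ⧸ J) = 0 := by
      rw [← hzero, ← Module.supportDim_quotient_eq_ringKrullDim]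
      refine Module.supportDim_eq_of_equiv (Submodule.quotEquivOfEq _ _ ?_)
      rw [smul_eq_mul, Ideal.mul_top, hJ, Ideal.map_ofList]
    have hrad' : φ a ∈ J.radical := by
      rw [Ideal.radical_eq_sInf, Submodule.mem_sInf]
      rintro q ⟨hJq, hq⟩
      haveI := hq
      have hqmax : q = maximalIdeal L := by
        haveI : Ring.KrullDimLE 0 (L ⧸ J) := by rw [Ring.krullDimLE_iff, hJdim]; rfl
        have hq' : (Ideal.map (Ideal.Quotient.mk J) q : Ideal (L ⧸ J)).IsPrime :=
          Ideal.map_isPrime_of_surjective Ideal.Quotient.mk_surjective (by rwa [Ideal.mk_ker])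
        haveI := Ring.krullDimLE_zero_iff.1 (inferInstance : Ring.KrullDimLE 0 (L ⧸ J)) _ hq'
        have := Ideal.comap_isMaximal_of_surjective (Ideal.Quotient.mk J) Ideal.Quotient.mk_surjective
          (K := Ideal.map (Ideal.Quotient.mk J) q)
        rw [Ideal.comap_map_of_surjective _ Ideal.Quotient.mk_surjective, ← RingHom.ker_eq_comap_bot, Ideal.mk_ker,
          sup_eq_left.2 hJq] at this
        exact eq_maximalIdeal this
      rw [hqmax, mem_maximalIdeal, mem_nonunits_iff]
      exact fun hu => (mem_maximalIdeal a).1 ha (hloc a hu)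
    obtain ⟨n, hn⟩ := hrad'
    rw [← map_pow] at hn
    exact hP.mem_of_pow_mem n (hle (comap_map_le 𝒜 p _ hn))
  have hht : (maximalIdeal R₀).height ≤ d := by
    have hmin : maximalIdeal R₀ ∈ (Ideal.span (xs.toFinset : Set R₀)).minimalPrimes := by
      have hspan : Ideal.span (xs.toFinset : Set R₀) = Ideal.ofList xs := by
        rw [Ideal.ofList]; congr 1; ext; simp
      rw [hspan]
      exact ⟨⟨inferInstance, Ideal.span_le.2 fun x hx => hmem x hx⟩, fun P hP _ => (hrad P hP.1 hP.2).ge⟩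
    exact (Ideal.height_le_card_of_mem_minimalPrimes_span_finset hmin).trans
      (by exact_mod_cast (List.toFinset_card_le xs).trans hlen.le)
  rw [CAlgH3.isCohenMacaulayLocalRing_iff_depth]
  refine le_antisymm ?_ ?_
  · rw [← maximalIdeal_height_eq_ringKrullDim]
    exact WithBot.coe_le_coe.2 (hht.trans hdep)
  · have := CAlgH3.depth_le_supportDim (R := R₀) (M := R₀)
    rwa [Module.supportDim_self_eq_ringKrullDim] at this

/-- A minimal prime kills each of its elements up to a power outside. -/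
lemma exists_mul_pow_eq_zero_of_minimal {B : Type u} [CommRing B] {Q : Ideal B} [Q.IsPrime]
    (hQ : ∀ P : Ideal B, P.IsPrime → P ≤ Q → P = Q) {x : B} (hx : x ∈ Q) :
    ∃ (w : B) (k : ℕ), w ∉ Q ∧ w * x ^ k = 0 := by
  by_contra! hcon
  obtain ⟨P, hP, -, hdisj⟩ := Ideal.exists_le_prime_disjoint (⊥ : Ideal B) (Q.primeCompl ⊔ Submonoid.powers x) (by
    rw [Set.disjoint_left]
    rintro _ rfl hz
    obtain ⟨w, hw, _, ⟨k, rfl⟩, hwk⟩ := Submonoid.mem_sup.1 hz
    exact hcon w k hw hwk)
  have hle : P ≤ Q := fun y hy => by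
    by_contra hyQ
    exact Set.disjoint_left.1 hdisj hy (Submonoid.mem_sup_left hyQ)
  rw [← hQ P hP hle] at hx
  exact Set.disjoint_left.1 hdisj hx (Submonoid.mem_sup_right (Submonoid.mem_powers x))

/-- The degree zero part of the localisation at a relevant homogeneous prime inherits `(S₁)`. -/
theorem s1_atPrime (hpos : ∃ D, ∃ g ∈ 𝒜 D, 0 < D ∧ g ∉ p)
    (hL : _root_.LocCoh.HasSk 1 L L) : _root_.LocCoh.HasSk 1 R₀ R₀ := by
  classical
  haveI := isNoetherianRing_atPrime 𝒜 p
  haveI : IsNoetherianRing L := IsLocalization.isNoetherianRing p.primeCompl _ inferInstance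
  set φ := algebraMap R₀ L
  rw [CommAlg6.hasSk_one_iff] at hL ⊢
  intro q hq r _ hrq
  refine le_antisymm hrq fun z hz => ?_
  obtain ⟨-, y, hy⟩ := isAssociatedPrime_iff.1 hq
  have hy0 : φ y ≠ 0 := fun h => by
    have : y = 0 := by
      rw [HomogeneousLocalization.ext_iff_val, HomogeneousLocalization.val_zero]
      rwa [← HomogeneousLocalization.algebraMap_apply]
    refine q.isPrime.ne_top ((Ideal.eq_top_iff_one _).2 ?_)
    rw [hy, Submodule.mem_colon_singleton, this, smul_zero]
    exact zero_mem _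
  obtain ⟨Q, hQ, hyQ⟩ := exists_le_isAssociatedPrime_of_isNoetherianRing L (φ y) hy0
  haveI := hQ.isPrime
  have hQmin : ∀ P : Ideal L, P.IsPrime → P ≤ Q → P = Q := fun P hP hle =>
    hL ⟨Q, inferInstance⟩ hQ ⟨P, hP⟩ (by rw [Module.mem_support_iff]; infer_instance) hle
  have hqQ : ∀ w ∈ q.asIdeal, φ w ∈ Q := fun w hw => hyQ (by
    rw [hy, Submodule.mem_colon_singleton, Submodule.mem_bot, smul_eq_mul] at hw
    rw [Submodule.mem_colon_singleton, Submodule.mem_bot, smul_eq_mul, ← map_mul, hw, map_zero])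
  obtain ⟨⟨dz, n, den, hden⟩, rfl⟩ := HomogeneousLocalization.mk_surjective z
  set c : HomogeneousLocalization.NumDenSameDeg 𝒜 p.primeCompl := ⟨dz, n, den, hden⟩
  obtain ⟨w, k, hw, hwk⟩ := exists_mul_pow_eq_zero_of_minimal hQmin (hqQ _ hz)
  obtain ⟨⟨a, s⟩, has⟩ := IsLocalization.surj p.primeCompl w
  have hsu : IsUnit (algebraMap A L s) := IsLocalization.map_units L s
  have ha : algebraMap A L a ∉ Q := by
    rw [← has, Ideal.mul_unit_mem_iff_mem _ hsu]; exact hw
  have han : algebraMap A L (a * (n : A) ^ k) = 0 := by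
    rw [map_mul, map_pow, ← has, ← algebraMap_mk_spec 𝒜 p c, mul_pow,
      show w * algebraMap A L ↑s * (φ (HomogeneousLocalization.mk c) ^ k * algebraMap A L ↑den ^ k) =
        (w * φ (HomogeneousLocalization.mk c) ^ k) * (algebraMap A L ↑s * algebraMap A L ↑den ^ k) by ring,
      hwk, zero_mul]
  obtain ⟨t, ht⟩ := (IsLocalization.map_eq_zero_iff p.primeCompl L _).1 han
  have hta : (t : A) * a ∉ Q.comap (algebraMap A L) := by
    rw [Ideal.mem_comap, map_mul, Ideal.unit_mul_mem_iff_mem _ (IsLocalization.map_units L t)]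
    exact ha
  obtain ⟨e, he⟩ := exists_component_notMem 𝒜 hta
  obtain ⟨D, g, hg, hD, hgp⟩ := hpos
  have hzero : (DirectSum.decompose 𝒜 ((t : A) * a) e : A) * (n : A) ^ k = 0 := by
    have h := congrArg (fun x => (DirectSum.decompose 𝒜 x (e + k • dz) : A)) ht
    simp only [DirectSum.decompose_zero] at h
    rw [← mul_assoc, DirectSum.coe_decompose_mul_of_right_mem_of_le 𝒜 (SetLike.pow_mem_graded k n.2)
      (Nat.le_add_left _ _), Nat.add_sub_cancel] at h
    exact h
  let c' : HomogeneousLocalization.NumDenSameDeg 𝒜 p.primeCompl :=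
    ⟨D * e, ⟨(DirectSum.decompose 𝒜 ((t : A) * a) e : A) ^ D, by
        simpa [smul_eq_mul] using SetLike.pow_mem_graded D (DirectSum.decompose 𝒜 ((t : A) * a) e).2⟩,
      ⟨g ^ e, by simpa [smul_eq_mul, mul_comm] using SetLike.pow_mem_graded e hg⟩,
      fun h => hgp (Ideal.IsPrime.mem_of_pow_mem inferInstance e h)⟩
  have hc'Q : φ (HomogeneousLocalization.mk c') ∉ Q := fun h => by
    have h1 := Q.mul_mem_right (algebraMap A L (c'.den : A)) h
    rw [algebraMap_mk_spec 𝒜 p c'] at h1
    change algebraMap A L ((DirectSum.decompose 𝒜 ((t : A) * a) e : A) ^ D) ∈ Q at h1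
    rw [map_pow] at h1
    exact he (Ideal.mem_comap.2 (Ideal.IsPrime.mem_of_pow_mem inferInstance D h1))
  have hprod : HomogeneousLocalization.mk c' * HomogeneousLocalization.mk c ^ k = (0 : R₀) := by
    have hu : IsUnit (algebraMap A L (c'.den : A) * algebraMap A L (c.den : A) ^ k) :=
      (IsLocalization.map_units L (⟨(c'.den : A), c'.den_mem⟩ : p.primeCompl)).mul
        ((IsLocalization.map_units L (⟨(c.den : A), c.den_mem⟩ : p.primeCompl)).pow k)
    have h0 : φ (HomogeneousLocalization.mk c' * HomogeneousLocalization.mk c ^ k) *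
        (algebraMap A L (c'.den : A) * algebraMap A L (c.den : A) ^ k) = 0 := by
      rw [map_mul, map_pow, show ∀ x y u v : L, x * y ^ k * (u * v ^ k) = (x * u) * (y * v) ^ k by intros; ring,
        algebraMap_mk_spec 𝒜 p c', algebraMap_mk_spec 𝒜 p c, ← map_pow, ← map_mul]
      change algebraMap A L ((DirectSum.decompose 𝒜 ((t : A) * a) e : A) ^ D * (n : A) ^ k) = 0
      obtain ⟨D', rfl⟩ : ∃ D', D = D' + 1 := ⟨D - 1, by omega⟩
      rw [pow_succ, mul_assoc, hzero, mul_zero, map_zero]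
    rw [HomogeneousLocalization.ext_iff_val, HomogeneousLocalization.val_zero, ← HomogeneousLocalization.algebraMap_apply]
    exact hu.mul_left_eq_zero.1 h0
  have hr : HomogeneousLocalization.mk c' * HomogeneousLocalization.mk c ^ k ∈ r.asIdeal := by
    rw [hprod]; exact zero_mem _
  rcases r.isPrime.mem_or_mem hr with h | h
  · exact absurd (hqQ _ (hrq h)) hc'Q
  · exact r.isPrime.mem_of_pow_mem k h

omit [IsNoetherianRing A] in
lemma exists_relevant (x : Proj 𝒜) :
    ∃ D, ∃ g ∈ 𝒜 D, 0 < D ∧ g ∉ x.asHomogeneousIdeal.toIdeal := by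
  classical
  obtain ⟨a, hai, hax⟩ := SetLike.not_le_iff_exists.1 x.not_irrelevant_le
  obtain ⟨m, hm⟩ := exists_component_notMem 𝒜 hax
  have hm0 : m ≠ 0 := by
    rintro rfl
    refine hm ?_
    rw [← GradedRing.proj_apply, show GradedRing.proj 𝒜 0 a = 0 from hai]
    exact zero_mem _
  exact ⟨m, _, (DirectSum.decompose 𝒜 a m).2, Nat.pos_of_ne_zero hm0, hm⟩

theorem cm_stalk [_root_.LocCoh.IsCohenMacaulayRing A] (x : Proj 𝒜) :
    _root_.LocCoh.IsCohenMacaulayLocalRing ((Proj 𝒜).presheaf.stalk x) :=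
  haveI := x.isPrime
  CAlgH3.isCohenMacaulayLocalRing_of_ringEquiv
    (h := cm_atPrime 𝒜 _ x.asHomogeneousIdeal.isHomogeneous (exists_relevant 𝒜 x)
      (_root_.LocCoh.IsCohenMacaulayRing.isCohenMacaulayLocalRing_localization _))
    (Proj.stalkIso' 𝒜 x).symm

theorem s1_stalk (hA : _root_.LocCoh.HasSk 1 A A) (x : Proj 𝒜) :
    _root_.LocCoh.HasSk 1 ((Proj 𝒜).presheaf.stalk x) ((Proj 𝒜).presheaf.stalk x) := by
  haveI := x.isPrime
  have h := s1_atPrime 𝒜 _ (exists_relevant 𝒜 x)
    (CAlgH3.hasSk_localization (S := Localization.AtPrime x.asHomogeneousIdeal.toIdeal)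
      x.asHomogeneousIdeal.toIdeal.primeCompl hA)
  haveI := isNoetherianRing_atPrime 𝒜 x.asHomogeneousIdeal.toIdeal
  exact CommAlg6.hasSk_of_ringEquiv (Proj.stalkIso' 𝒜 x).symm h

end Groth.Agent.CohDer1.FiltBl
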