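import Groth.Prelude.Def_W4c2filtblowupsingRees
import Mathlib

/-! Rees algebras of valuative filtrations of normal domains. -/

set_option autoImplicit false

universe u

open Polynomial

namespace Groth.Agent.CohDer1.FiltBl

variable {A K : Type u} [CommRing A] [Field K] [Algebra A K]

/-- `q v(x)`. -/
def sv (v : AddValuation K (WithTop ℤ)) (q : ℕ) (x : A) : WithTop ℤ := q • v (algebraMap A K x)

variable {v : AddValuation K (WithTop ℤ)} {q p : ℕ}

lemma sv_mul (x y : A) : sv v q (x * y) = sv v q x + sv v q y := by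
  rw [sv, map_mul, v.map_mul, nsmul_add]; rfl

lemma sv_zero (hq : 0 < q) : sv v q (0 : A) = ⊤ := by
  rw [sv, map_zero, v.map_zero]
  obtain ⟨n, rfl⟩ : ∃ n, q = n + 1 := ⟨q - 1, by omega⟩
  rw [succ_nsmul, add_top]

lemma le_sv_add {r : WithTop ℤ} {x y : A} (hx : r ≤ sv v q x) (hy : r ≤ sv v q y) : r ≤ sv v q (x + y) := by
  rw [sv, map_add]
  rcases le_total (v (algebraMap A K x)) (v (algebraMap A K y)) with h | h
  · exact hx.trans (nsmul_le_nsmul_right (v.map_le_add le_rfl h) q)
  · exact hy.trans (nsmul_le_nsmul_right (v.map_le_add h le_rfl) q)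

lemma le_sv_sum (hq : 0 < q) {ι : Type*} (s : Finset ι) (g : ι → A) {r : WithTop ℤ}
    (h : ∀ i ∈ s, r ≤ sv v q (g i)) : r ≤ sv v q (∑ i ∈ s, g i) := by
  classical
  induction s using Finset.induction with
  | empty => rw [Finset.sum_empty, sv_zero hq]; exact le_top
  | insert a s ha ih =>
    rw [Finset.sum_insert ha]
    exact le_sv_add (h a (Finset.mem_insert_self _ _)) (ih fun i hi => h i (Finset.mem_insert_of_mem hi))

lemma sv_add_eq {x y : A} (h : sv v q x < sv v q y) : sv v q (x + y) = sv v q x := by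
  have h' : v (algebraMap A K x) < v (algebraMap A K y) := by
    by_contra hle
    exact h.not_ge (nsmul_le_nsmul_right (not_lt.1 hle) q)
  rw [sv, map_add, v.map_add_eq_of_lt_left h', sv]

/-- All coefficients of `f` have weight at least `r`. -/
def Bd (v : AddValuation K (WithTop ℤ)) (q p : ℕ) (f : A[X]) (r : ℤ) : Prop :=
  ∀ d : ℕ, ((r + p * d : ℤ) : WithTop ℤ) ≤ sv v q (f.coeff d)

/-- `d` is the last coefficient attaining the weight `r` of `f`. -/
def Piv (v : AddValuation K (WithTop ℤ)) (q p : ℕ) (f : A[X]) (d : ℕ) (r : ℤ) : Prop :=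
  Bd v q p f r ∧ sv v q (f.coeff d) = ((r + p * d : ℤ) : WithTop ℤ) ∧
    ∀ e, d < e → ((r + p * e + 1 : ℤ) : WithTop ℤ) ≤ sv v q (f.coeff e)

lemma Bd.mul (hq : 0 < q) {f g : A[X]} {r s : ℤ} (hf : Bd v q p f r) (hg : Bd v q p g s) :
    Bd v q p (f * g) (r + s) := by
  intro k
  rw [coeff_mul]
  refine le_sv_sum hq _ _ fun x hx => ?_
  rw [Finset.HasAntidiagonal.mem_antidiagonal] at hx
  rw [sv_mul]
  refine le_of_eq_of_le ?_ (add_le_add (hf x.1) (hg x.2))
  rw [← WithTop.coe_add, WithTop.coe_inj, ← hx]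
  push_cast
  ring

lemma Bd.mono {f : A[X]} {r s : ℤ} (h : s ≤ r) (hf : Bd v q p f r) : Bd v q p f s := fun d =>
  (WithTop.coe_le_coe.2 (by omega)).trans (hf d)

lemma Piv.mul (hq : 0 < q) {f g : A[X]} {d e : ℕ} {r s : ℤ} (hf : Piv v q p f d r) (hg : Piv v q p g e s) :
    Piv v q p (f * g) (d + e) (r + s) := by
  classical
  have hlt : ∀ a b : ℕ, (d < a ∨ e < b) →
      ((r + s + p * (a + b : ℕ) + 1 : ℤ) : WithTop ℤ) ≤ sv v q (f.coeff a * g.coeff b) := by
    intro a b hab
    rw [sv_mul]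
    rcases hab with h | h
    · refine le_of_eq_of_le ?_ (add_le_add (hf.2.2 a h) (hg.1 b))
      rw [← WithTop.coe_add, WithTop.coe_inj]; push_cast; ring
    · refine le_of_eq_of_le ?_ (add_le_add (hf.1 a) (hg.2.2 b h))
      rw [← WithTop.coe_add, WithTop.coe_inj]; push_cast; ring
  refine ⟨hf.1.mul hq hg.1, ?_, fun k hk => ?_⟩
  · have hsplit : (f * g).coeff (d + e) = f.coeff d * g.coeff e +
        ∑ x ∈ (Finset.HasAntidiagonal.antidiagonal (d + e)).erase (d, e), f.coeff x.1 * g.coeff x.2 := by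
      rw [coeff_mul, Finset.add_sum_erase (Finset.HasAntidiagonal.antidiagonal (d + e)) (fun x => f.coeff x.1 * g.coeff x.2)
        (show (d, e) ∈ Finset.HasAntidiagonal.antidiagonal (d + e) from Finset.HasAntidiagonal.mem_antidiagonal.2 rfl)]
    have hmain : sv v q (f.coeff d * g.coeff e) = ((r + s + p * (d + e : ℕ) : ℤ) : WithTop ℤ) := by
      rw [sv_mul, hf.2.1, hg.2.1, ← WithTop.coe_add, WithTop.coe_inj]; push_cast; ring
    rw [hsplit, sv_add_eq, hmain]
    rw [hmain]
    refine lt_of_lt_of_le (WithTop.coe_lt_coe.2 (lt_add_one _)) (le_sv_sum hq _ _ fun x hx => ?_)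
    rw [Finset.mem_erase, Finset.HasAntidiagonal.mem_antidiagonal] at hx
    refine le_of_eq_of_le (by rw [hx.2]) (hlt x.1 x.2 ?_)
    by_contra hcon
    exact hx.1 (Prod.ext (by simp only; omega) (by simp only; omega))
  · rw [coeff_mul]
    refine le_sv_sum hq _ _ fun x hx => ?_
    rw [Finset.HasAntidiagonal.mem_antidiagonal] at hx
    exact le_of_eq_of_le (by rw [hx]) (hlt x.1 x.2 (by omega))

lemma Bd.pow (hq : 0 < q) {f : A[X]} {r : ℤ} (hf : Bd v q p f r) : ∀ n : ℕ, Bd v q p (f ^ n) (n * r)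
  | 0 => fun d => by
    rw [pow_zero, coeff_one]
    split_ifs with h
    · subst h; simp [sv]
    · rw [sv_zero hq]; exact le_top
  | n + 1 => by
    rw [pow_succ, show ((n + 1 : ℕ) : ℤ) * r = (n : ℤ) * r + r by push_cast; ring]
    exact (Bd.pow hq hf n).mul hq hf

lemma Piv.pow (hq : 0 < q) {f : A[X]} {d : ℕ} {r : ℤ} (hf : Piv v q p f d r) :
    ∀ n : ℕ, Piv v q p (f ^ n) (n * d) (n * r)
  | 0 => by
    refine ⟨hf.1.pow hq 0, ?_, fun e he => ?_⟩
    · simp [sv]
    · rw [pow_zero, coeff_one, if_neg (by omega), sv_zero hq]; exact le_top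
  | n + 1 => by
    rw [pow_succ, show ((n + 1 : ℕ) : ℤ) * r = (n : ℤ) * r + r by push_cast; ring,
      show (n + 1) * d = n * d + d by ring]
    exact (Piv.pow hq hf n).mul hq hf

lemma exists_piv (hq : 0 < q) [IsFractionRing A K] {f : A[X]} (hf : f ≠ 0) :
    ∃ (d : ℕ) (r : ℤ), Piv v q p f d r := by
  classical
  have hval : ∀ d ∈ f.support, ∃ z : ℤ, sv v q (f.coeff d) = z := by
    intro d hd
    have hne : v (algebraMap A K (f.coeff d)) ≠ ⊤ := by
      rw [Ne, v.top_iff, map_eq_zero_iff _ (IsFractionRing.injective A K)]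
      exact mem_support_iff.1 hd
    obtain ⟨z, hz⟩ := WithTop.ne_top_iff_exists.1 hne
    exact ⟨q • z, by rw [sv, ← hz, WithTop.coe_nsmul]⟩
  choose! z hz using hval
  obtain ⟨d0, hd0, hmin⟩ := f.support.exists_min_image (fun d => z d - p * d) (support_nonempty.2 hf)
  let M := f.support.filter fun d => z d - p * d = z d0 - p * d0
  have hM : M.Nonempty := ⟨d0, Finset.mem_filter.2 ⟨hd0, rfl⟩⟩
  obtain ⟨hd, hdeq⟩ := Finset.mem_filter.1 (M.max'_mem hM)
  refine ⟨M.max' hM, z d0 - p * d0, fun d => ?_, ?_, fun e he => ?_⟩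
  · by_cases hds : d ∈ f.support
    · rw [hz d hds, WithTop.coe_le_coe]
      have := hmin d hds
      omega
    · rw [notMem_support_iff.1 hds, sv_zero hq]; exact le_top
  · rw [hz _ hd, WithTop.coe_inj]; omega
  · by_cases hes : e ∈ f.support
    · rw [hz e hes, WithTop.coe_le_coe]
      have := hmin e hes
      have hne : z e - p * e ≠ z d0 - p * d0 := fun h =>
        he.not_ge (M.le_max' e (Finset.mem_filter.2 ⟨hes, h⟩))
      omega
    · rw [notMem_support_iff.1 hes, sv_zero hq]; exact le_top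

/-- An element integral over polynomials of nonnegative weight has nonnegative weight. -/
theorem bd_zero_of_integral (hq : 0 < q) [IsFractionRing A K] {f : A[X]} {m : ℕ} {c : ℕ → A[X]}
    (hc : ∀ j, Bd v q p (c j) 0) (h : f ^ m + ∑ j ∈ Finset.range m, c j * f ^ j = 0) : Bd v q p f 0 := by
  classical
  rcases eq_or_ne f 0 with rfl | hf
  · intro d; rw [coeff_zero, sv_zero hq]; exact le_top
  obtain ⟨d, r, hp⟩ := exists_piv (v := v) (p := p) hq hf
  refine Bd.mono ?_ hp.1
  by_contra hr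
  have hm := (hp.pow hq m).2.1
  have hrest : (((m : ℤ) * r + p * (m * d : ℕ) + 1 : ℤ) : WithTop ℤ) ≤
      sv v q ((∑ j ∈ Finset.range m, c j * f ^ j).coeff (m * d)) := by
    rw [finsetSum_coeff]
    refine le_sv_sum hq _ _ fun j hj => ?_
    refine le_trans ?_ (((hc j).mul hq (hp.1.pow hq j)) (m * d))
    rw [WithTop.coe_le_coe]
    have h1 : ((j : ℤ) + 1) * r ≥ (m : ℤ) * r := by
      have : (j : ℤ) + 1 ≤ m := by exact_mod_cast Finset.mem_range.1 hj
      exact mul_le_mul_of_nonpos_right this (by omega)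
    nlinarith
  have h0 := congrArg (fun g : A[X] => sv v q (g.coeff (m * d))) h
  simp only [coeff_add, coeff_zero, sv_zero hq] at h0
  rw [sv_add_eq, hm] at h0
  · exact WithTop.coe_ne_top h0
  · rw [hm]
    exact lt_of_lt_of_le (WithTop.coe_lt_coe.2 (lt_add_one _)) hrest

theorem isIntegrallyClosed_of_injective {R S : Type u} [CommRing R] [IsDomain R] [CommRing S] [IsDomain S]
    [IsIntegrallyClosed S] (φ : R →+* S) (hφ : Function.Injective φ)
    (h : ∀ (f : S) (P : R[X]), P.Monic → P.eval₂ φ f = 0 → f ∈ φ.range) : IsIntegrallyClosed R := by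
  have hinj : Function.Injective ((algebraMap S (FractionRing S)).comp φ) :=
    (IsFractionRing.injective S (FractionRing S)).comp hφ
  let ψ : FractionRing R →+* FractionRing S := IsFractionRing.lift hinj
  have hψ : ψ.comp (algebraMap R (FractionRing R)) = (algebraMap S (FractionRing S)).comp φ :=
    RingHom.ext fun r => by
      rw [RingHom.comp_apply]
      exact IsFractionRing.lift_algebraMap (K := FractionRing R) hinj r
  rw [isIntegrallyClosed_iff (FractionRing R)]
  intro z hz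
  obtain ⟨P, hP, hroot⟩ := hz
  have hroot' := congrArg ψ hroot
  rw [Polynomial.hom_eval₂, map_zero, hψ, ← Polynomial.eval₂_map] at hroot'
  obtain ⟨f, hf⟩ := IsIntegrallyClosed.isIntegral_iff.1
    (⟨P.map φ, hP.map _, hroot'⟩ : IsIntegral S (ψ z))
  have hroot2 : P.eval₂ φ f = 0 := by
    refine IsFractionRing.injective S (FractionRing S) ?_
    rw [Polynomial.hom_eval₂, map_zero, hf, ← Polynomial.eval₂_map]
    exact hroot'
  obtain ⟨r, rfl⟩ := h f P hP hroot2
  refine ⟨r, ψ.injective ?_⟩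
  rw [← RingHom.comp_apply, hψ]
  exact hf

theorem isIntegrallyClosed_rees (A K : Type u) [CommRing A] [IsDomain A] [IsIntegrallyClosed A] [Field K]
    [Algebra A K] [IsFractionRing A K] (ι : Type) (v : ι → AddValuation K (WithTop ℤ))
    (p q : ι → ℕ) (hq : ∀ i, 0 < q i) (𝓕 : _root_.FiltBl.IdealFiltration A)
    (hF : ∀ (k : ℕ) (x : A), x ∈ 𝓕.F k ↔
      ∀ i, ((k * p i : ℕ) : WithTop ℤ) ≤ (q i : WithTop ℤ) * v i (algebraMap A K x)) :
    IsIntegrallyClosed 𝓕.rees := by
  have hsv : ∀ i (x : A), sv (v i) (q i) x = (q i : WithTop ℤ) * v i (algebraMap A K x) := fun i x => by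
    show q i • v i (algebraMap A K x) = _
    induction v i (algebraMap A K x) using WithTop.recTopCoe with
    | top =>
      obtain ⟨n, hn⟩ : ∃ n, q i = n + 1 := ⟨q i - 1, by have := hq i; omega⟩
      rw [hn, succ_nsmul, add_top, WithTop.mul_top]
      exact_mod_cast Nat.succ_ne_zero n
    | coe z =>
      rw [← WithTop.coe_nsmul, ← WithTop.coe_natCast, ← WithTop.coe_mul, nsmul_eq_mul]
  have hmem : ∀ f : A[X], f ∈ 𝓕.rees ↔ ∀ i, Bd (v i) (q i) (p i) f 0 := by
    intro f
    constructor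
    · intro hf i d
      refine le_of_eq_of_le ?_ (((hF d (f.coeff d)).1 (hf d) i).trans (hsv i _).ge)
      rw [zero_add, ← WithTop.coe_natCast, WithTop.coe_inj]; push_cast; ring
    · intro hf d
      refine (hF d (f.coeff d)).2 fun i => ?_
      refine le_of_eq_of_le ?_ ((hf i d).trans (hsv i _).le)
      rw [zero_add, ← WithTop.coe_natCast, WithTop.coe_inj]; push_cast; ring
  refine isIntegrallyClosed_of_injective 𝓕.rees.val.toRingHom Subtype.val_injective fun f P hP hroot2 => ?_
  have hfmem : f ∈ 𝓕.rees := by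
    rw [hmem]
    intro i
    refine bd_zero_of_integral (m := P.natDegree) (c := fun j => (P.coeff j : A[X])) (hq i)
      (fun j => (hmem _).1 (P.coeff j).2 i) ?_
    rw [Polynomial.eval₂_eq_sum_range, Finset.sum_range_succ, hP.coeff_natDegree, map_one, one_mul] at hroot2
    rw [add_comm]
    exact hroot2
  exact ⟨⟨f, hfmem⟩, rfl⟩

end Groth.Agent.CohDer1.FiltBl
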