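import Groth.Agent.CohDer1.FiltBl.S2
import Groth.Agent.CohDer1.FiltBl.Colon

/-! `(S₂)` descends from the extended Rees algebra to the Rees algebra. -/

set_option autoImplicit false

universe u

open IsLocalRing LaurentPolynomial

namespace Groth.Agent.CohDer1.FiltBl

/-- A subring agreeing with an `(S_k)` overring after inverting `t` satisfies `(S_k)` off `t`. -/
theorem sk_at_of_away {R C : Type u} [CommRing R] [CommRing C] [IsNoetherianRing R] (f : R →+* C)
    (hf : Function.Injective f) (t : R) (hsurj : ∀ c : C, ∃ n : ℕ, f t ^ n * c ∈ f.range) (k : ℕ)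
    (hC : _root_.LocCoh.HasSk k C C) (P : Ideal R) [P.IsPrime] (ht : t ∉ P) :
    min (k : WithBot ℕ∞) (ringKrullDim (Localization.AtPrime P)) ≤
      ((_root_.LocCoh.depth (Localization.AtPrime P) (Localization.AtPrime P) : ℕ∞) : WithBot ℕ∞) := by
  let L := Localization.Away (f t)
  letI : Algebra R L := ((algebraMap C L).comp f).toAlgebra
  have halg : ∀ r : R, algebraMap R L r = algebraMap C L (f r) := fun _ => rfl
  haveI : IsLocalization.Away t L :=
    { map_units := by
        rintro ⟨_, n, rfl⟩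
        rw [map_pow, halg]
        exact (IsLocalization.Away.algebraMap_isUnit (f t)).pow n
      surj := fun l => by
        obtain ⟨⟨c, ⟨_, m, rfl⟩⟩, h⟩ := IsLocalization.surj (Submonoid.powers (f t)) l
        obtain ⟨n, r, hr⟩ := hsurj c
        refine ⟨⟨r, ⟨_, m + n, rfl⟩⟩, ?_⟩
        change l * algebraMap R L (t ^ (m + n)) = algebraMap R L r
        rw [halg, halg, map_pow, hr, pow_add, map_mul (algebraMap C L), map_mul (algebraMap C L), ← mul_assoc, h,
          mul_comm]
      exists_of_eq := fun {x y} h => by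
        rw [halg, halg] at h
        obtain ⟨⟨_, n, rfl⟩, hn⟩ := IsLocalization.exists_of_eq (M := Submonoid.powers (f t)) h
        exact ⟨⟨_, n, rfl⟩, hf (by simpa only [map_mul, map_pow] using hn)⟩ }
  have hL := (CAlgH3.hasSk_self_iff k).1
    (CAlgH3.hasSk_localization (S := L) (Submonoid.powers (f t)) hC)
  have disj : Disjoint (Submonoid.powers t : Set R) P := by
    rw [Set.disjoint_left]
    rintro x ⟨n, rfl⟩ hx
    exact ht (Ideal.IsPrime.mem_of_pow_mem inferInstance n hx)
  let P' := P.map (algebraMap R L)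
  haveI : P'.IsPrime := IsLocalization.isPrime_of_isPrime_disjoint (Submonoid.powers t) _ _ inferInstance disj
  have hP : P'.comap (algebraMap R L) = P :=
    IsLocalization.under_map_of_isPrime_disjoint (Submonoid.powers t) _ inferInstance disj
  have h := hL P'
  obtain ⟨e, -⟩ := CAlgH3.isLocalization_atPrime_under (Submonoid.powers t) P'
  rw [← ringKrullDim_eq_of_ringEquiv e, ← CAlgH3.depth_ringEquiv e] at h
  have hgen : ∀ (P₁ : Ideal R) [P₁.IsPrime], P₁ = P →
      min (k : WithBot ℕ∞) (ringKrullDim (Localization.AtPrime P₁)) ≤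
        ((_root_.LocCoh.depth (Localization.AtPrime P₁) (Localization.AtPrime P₁) : ℕ∞) : WithBot ℕ∞) →
      min (k : WithBot ℕ∞) (ringKrullDim (Localization.AtPrime P)) ≤
        ((_root_.LocCoh.depth (Localization.AtPrime P) (Localization.AtPrime P) : ℕ∞) : WithBot ℕ∞) := by
    intro P₁ _ hP₁ h1
    subst hP₁
    exact h1
  exact hgen _ hP h

/-- Depth at least two from a regular element and the absence of an embedded colon. -/
theorem two_le_depth_of_colon {R : Type u} [CommRing R] [IsNoetherianRing R] (P : Ideal R) [P.IsPrime] {a : R}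
    (haP : a ∈ P) (ha : IsSMulRegular R a)
    (h : ∀ x : R, (∀ p ∈ P, p * x ∈ Ideal.span {a}) → x ∈ Ideal.span {a}) :
    2 ≤ _root_.LocCoh.depth (Localization.AtPrime P) (Localization.AtPrime P) := by
  classical
  set S := Localization.AtPrime P
  set a' := algebraMap R S a
  have hmap : (Ideal.span {a}).map (algebraMap R S) = Ideal.span {a'} := by rw [Ideal.map_span, Set.image_singleton]
  have ha' : a' ∈ maximalIdeal S := (IsLocalization.AtPrime.to_map_mem_maximal_iff _ _ a).2 haP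
  haveI := CAlgH3.isLocalRing_quotient (CAlgH3.span_singleton_le_maximal ha')
  rw [← CAlgH3.depth_quotSMulTop_add_one ha' (algebraMap_regular a ha P),
    CAlgH3.depth_congr (CAlgH3.quotSMulTopSelf a')]
  suffices hne : _root_.LocCoh.depth S (S ⧸ Ideal.span {a'}) ≠ 0 by
    exact le_trans (by norm_num) (add_le_add (Order.one_le_iff_pos.2 (pos_iff_ne_zero.2 hne)) (le_refl (1 : ℕ∞)))
  intro h0
  obtain ⟨-, z, hz⟩ := isAssociatedPrime_iff.1 (CAlgH3.depth_eq_zero_iff.1 h0)
  obtain ⟨z, rfl⟩ := Ideal.Quotient.mk_surjective z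
  obtain ⟨r, s, rfl⟩ := IsLocalization.exists_mk'_eq P.primeCompl z
  have key : ∀ p ∈ P, ∃ t ∉ P, t * (p * r) ∈ Ideal.span {a} := by
    intro p hp
    have h1 : algebraMap R S p ∈ maximalIdeal S := (IsLocalization.AtPrime.to_map_mem_maximal_iff _ _ p).2 hp
    rw [hz, Submodule.mem_colon_singleton, Submodule.mem_bot] at h1
    change Ideal.Quotient.mk _ (algebraMap R S p * IsLocalization.mk' S r s) = 0 at h1
    rw [Ideal.Quotient.eq_zero_iff_mem] at h1
    have h2 := Ideal.mul_mem_right (algebraMap R S s) _ h1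
    rw [mul_assoc, IsLocalization.mk'_spec, ← map_mul, ← hmap] at h2
    exact (IsLocalization.algebraMap_mem_map_algebraMap_iff P.primeCompl S _ _).1 h2
  choose! t ht hta using key
  obtain ⟨G, hG⟩ := IsNoetherian.noetherian P
  have hGP : ∀ g ∈ G, g ∈ P := fun g hg => hG ▸ Ideal.subset_span hg
  have hr : (∏ g ∈ G, t g) * r ∈ Ideal.span {a} := by
    refine h _ fun p hp => ?_
    rw [← hG] at hp
    induction hp using Submodule.span_induction with
    | mem g hg =>
      rw [← Finset.mul_prod_erase G t hg]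
      have : g * (t g * ∏ x ∈ G.erase g, t x) * r = (∏ x ∈ G.erase g, t x) * (t g * (g * r)) := by ring
      rw [← mul_assoc, this]
      exact Ideal.mul_mem_left _ _ (hta g (hGP g hg))
    | zero => simp
    | add x y _ _ hx hy => rw [add_mul]; exact add_mem hx hy
    | smul c x _ hx => rw [smul_eq_mul, mul_assoc]; exact Ideal.mul_mem_left _ _ hx
  have hprod : (∏ g ∈ G, t g) ∉ P := fun hm =>
    (let ⟨g, hg, hgP⟩ := Ideal.IsPrime.prod_mem_iff.1 hm; ht g (hGP g hg) hgP)
  have hmk : IsLocalization.mk' S r s ∈ Ideal.span {a'} := by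
    have h2 : algebraMap R S r ∈ Ideal.span {a'} := by
      rw [← hmap]
      exact (IsLocalization.algebraMap_mem_map_algebraMap_iff P.primeCompl S _ _).2 ⟨_, hprod, hr⟩
    rw [IsLocalization.mk'_eq_mul_mk'_one]
    exact Ideal.mul_mem_right _ _ h2
  have hone : (1 : S) ∈ maximalIdeal S := by
    rw [hz, Submodule.mem_colon_singleton, one_smul, Submodule.mem_bot, Ideal.Quotient.eq_zero_iff_mem]
    exact hmk
  exact (maximalIdeal.isMaximal S).ne_top ((Ideal.eq_top_iff_one _).2 hone)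

variable {A : Type u} [CommRing A] (𝓕 : _root_.FiltBl.IdealFiltration A)

lemma coeff_toLaurent_natCast (f : Polynomial A) (k : ℕ) :
    (Polynomial.toLaurent f).coeff (k : ℤ) = f.coeff k := by
  rw [Polynomial.toLaurent_apply, AddMonoidAlgebra.coeff_mapDomain, Finsupp.mapDomain_apply Nat.cast_injective]
  rfl

/-- The monomial `a X ^ n` of the Rees algebra. -/
noncomputable def rmono (n : ℕ) (a : A) (ha : a ∈ 𝓕.F n) : 𝓕.rees :=
  ⟨Polynomial.monomial n a, fun m => by
    rw [Polynomial.coeff_monomial]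
    split_ifs with h
    · subst h; exact ha
    · exact Ideal.zero_mem _⟩

@[simp] lemma coe_rmono (n : ℕ) (a : A) (ha : a ∈ 𝓕.F n) :
    (rmono 𝓕 n a ha : Polynomial A) = Polynomial.monomial n a := rfl

lemma pow_mem_F {m : ℕ} {a : A} (ha : a ∈ 𝓕.F m) : ∀ n : ℕ, a ^ n ∈ 𝓕.F (n * m)
  | 0 => by simp [𝓕.zero_eq]
  | n + 1 => by
    rw [pow_succ, Nat.succ_mul]
    exact 𝓕.mul_le _ _ (Ideal.mul_mem_mul (pow_mem_F ha n) ha)

/-- Off a monomial of positive degree the Rees algebra agrees with the extended Rees algebra. -/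
lemma exists_pow_mul_mem_range_fromRees {m : ℕ} (hm : 0 < m) {a : A} (ha : a ∈ 𝓕.F m) (c : 𝓕.extRees) :
    ∃ n : ℕ, (fromRees 𝓕).toRingHom (rmono 𝓕 m a ha) ^ n * c ∈ (fromRees 𝓕).toRingHom.range := by
  classical
  let N := (c : A[T;T⁻¹]).coeff.support.sup Int.natAbs
  refine ⟨N, ?_⟩
  rw [← map_pow, ← sum_comp 𝓕 c _ subset_rfl, Finset.mul_sum]
  refine Subring.sum_mem _ fun i hi => ?_
  have hiN : i.natAbs ≤ N := Finset.le_sup (f := Int.natAbs) hi
  have hN : (N : ℤ) ≤ N * m := by
    exact_mod_cast Nat.le_mul_of_pos_right N hm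
  obtain ⟨k, hk⟩ : ∃ k : ℕ, (k : ℤ) = (N : ℤ) * m + i :=
    ⟨((N : ℤ) * m + i).toNat, Int.toNat_of_nonneg (by omega)⟩
  obtain ⟨b, hb⟩ := (comp 𝓕 i c).2
  have hbi : b ∈ 𝓕.F i.toNat := by
    have := (comp 𝓕 i c : 𝓕.extRees).2 i
    rwa [hb, coeff_CT, if_pos rfl] at this
  refine ⟨rmono 𝓕 k (a ^ N * b) ?_, ?_⟩
  · refine 𝓕.antitone ?_ (𝓕.mul_le _ _ (Ideal.mul_mem_mul (pow_mem_F 𝓕 ha N) hbi))
    push_cast [← Int.ofNat_le]
    omega
  · apply Subtype.ext
    change (fromRees 𝓕 _ : A[T;T⁻¹]) = (fromRees 𝓕 _ : A[T;T⁻¹]) * _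
    rw [coe_fromRees, coe_fromRees, hb, coe_rmono, SubmonoidClass.coe_pow, coe_rmono, Polynomial.monomial_pow,
      ← Polynomial.C_mul_X_pow_eq_monomial, ← Polynomial.C_mul_X_pow_eq_monomial,
      Polynomial.toLaurent_C_mul_X_pow, Polynomial.toLaurent_C_mul_X_pow, hk, map_mul, T_add,
      show ((m * N : ℕ) : ℤ) = (N : ℤ) * m by push_cast; ring]
    ring

/-- Off `F 1` the Rees algebra agrees with the polynomial ring. -/
lemma exists_pow_mul_mem_range_val {a : A} (ha : a ∈ 𝓕.F 1) (c : Polynomial A) :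
    ∃ n : ℕ, 𝓕.rees.val.toRingHom (algebraMap A 𝓕.rees a) ^ n * c ∈ 𝓕.rees.val.toRingHom.range := by
  refine ⟨c.natDegree, ⟨⟨Polynomial.C (a ^ c.natDegree) * c, fun k => ?_⟩, ?_⟩⟩
  · rw [Polynomial.coeff_C_mul]
    by_cases hk : k ≤ c.natDegree
    · refine Ideal.mul_mem_right _ _ (𝓕.antitone hk ?_)
      simpa using pow_mem_F 𝓕 ha c.natDegree
    · rw [Polynomial.coeff_eq_zero_of_natDegree_lt (not_le.1 hk), mul_zero]
      exact Ideal.zero_mem _
  · change Polynomial.C (a ^ c.natDegree) * c = Polynomial.C a ^ c.natDegree * c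
    rw [map_pow]

lemma isNoetherianRing_rees [IsNoetherianRing A] (hfg : Algebra.FiniteType A 𝓕.rees) : IsNoetherianRing 𝓕.rees :=
  haveI := hfg
  Algebra.FiniteType.isNoetherianRing A 𝓕.rees

theorem hasSk_polynomial [IsNoetherianRing A] (k : ℕ) (h : _root_.LocCoh.HasSk k A A) :
    _root_.LocCoh.HasSk k (Polynomial A) (Polynomial A) := by
  refine CommAlg6.hasSk_of_base_and_fibres (A := A) k h ((CommAlg6.forall_hasSk_fiber_iff k).1 fun p _ => ?_)
  haveI : IsRegularRing (p.Fiber (Polynomial A)) :=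
    IsRegularRing.of_ringEquiv (polyEquivTensor A p.ResidueField).toRingEquiv
  exact CommAlg6.isCMRing_of_isRegularRing k

/-- The prime of the extended Rees algebra below a prime of the base. -/
noncomputable def lift (p : PrimeSpectrum A) : PrimeSpectrum 𝓕.extRees :=
  ⟨RingHom.ker ((AddMonoidAlgebra.mapRingHom ℤ (Ideal.Quotient.mk p.asIdeal)).comp 𝓕.extRees.val.toRingHom),
    RingHom.ker_isPrime _⟩

lemma mem_lift {p : PrimeSpectrum A} {x : 𝓕.extRees} :
    x ∈ (lift 𝓕 p).asIdeal ↔ ∀ n, (x : A[T;T⁻¹]).coeff n ∈ p.asIdeal := by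
  change (AddMonoidAlgebra.mapRingHom ℤ (Ideal.Quotient.mk p.asIdeal)) (x : A[T;T⁻¹]) = 0 ↔ _
  constructor
  · intro h n
    have := congrArg (fun y => AddMonoidAlgebra.coeff y n) h
    simpa [Ideal.Quotient.eq_zero_iff_mem] using this
  · intro h
    apply AddMonoidAlgebra.ext
    refine Finsupp.ext fun n => ?_
    simp [Ideal.Quotient.eq_zero_iff_mem, h n]

lemma lift_strictMono : StrictMono (lift 𝓕) := by
  intro p q hpq
  refine lt_of_le_of_ne (fun x hx => (mem_lift 𝓕).2 fun n => hpq.le ((mem_lift 𝓕).1 hx n)) fun e => ?_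
  obtain ⟨a, haq, hap⟩ := SetLike.exists_of_lt (show p.asIdeal < q.asIdeal from hpq)
  have ha : algebraMap A 𝓕.extRees a ∈ (lift 𝓕 q).asIdeal := (mem_lift 𝓕).2 fun n => by
    change (C a : A[T;T⁻¹]).coeff n ∈ q.asIdeal
    rw [← mul_one (C a), ← T_zero, coeff_CT]
    split_ifs
    · exact haq
    · exact Ideal.zero_mem _
  rw [← e] at ha
  have := (mem_lift 𝓕).1 ha 0
  rw [show ((algebraMap A 𝓕.extRees a : 𝓕.extRees) : A[T;T⁻¹]) = C a * T 0 by rw [T_zero, mul_one]; rfl,
    coeff_CT, if_pos rfl] at this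
  exact hap this

/-- Primes containing `u` and the positive part have height at least that of `F 1`. -/
theorem height_F_one_le {Q : Ideal 𝓕.extRees} [Q.IsPrime] (hu : 𝓕.u ∈ Q)
    (hpos : ∀ (m : ℕ) (a : A) (ha : a ∈ 𝓕.F m), 0 < m → mono 𝓕 m a (by simpa using ha) ∈ Q) :
    (𝓕.F 1).height ≤ Q.height := by
  classical
  let p : PrimeSpectrum A := ⟨Q.comap (algebraMap A 𝓕.extRees), inferInstance⟩
  have hF : 𝓕.F 1 ≤ p.asIdeal := fun a ha => by
    change algebraMap A 𝓕.extRees a ∈ Q
    have : algebraMap A 𝓕.extRees a = 𝓕.u * mono 𝓕 ((1 : ℕ) : ℤ) a (by simpa using ha) := by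
      apply Subtype.ext
      rw [Subalgebra.coe_mul, coe_u, coe_mono, mul_left_comm, ← T_add]
      simp
    rw [this]
    exact Q.mul_mem_right _ hu
  have hle : lift 𝓕 p ≤ ⟨Q, inferInstance⟩ := by
    intro x hx
    rw [← sum_comp 𝓕 x _ subset_rfl]
    refine Q.sum_mem fun n _ => ?_
    have hc := (mem_lift 𝓕).1 hx n
    rcases le_or_gt n 0 with hn | hn
    · obtain ⟨k, rfl⟩ : ∃ k : ℕ, n = -(k : ℤ) := ⟨(-n).toNat, by omega⟩
      rw [exists_u_pow_mul 𝓕 (comp 𝓕 (-(k : ℤ)) x : 𝓕.extRees) k ((x : A[T;T⁻¹]).coeff (-(k : ℤ))) rfl]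
      exact Q.mul_mem_right _ hc
    · obtain ⟨m, rfl⟩ := Int.eq_ofNat_of_zero_le hn.le
      exact hpos m _ (by simpa using x.2 m) (by exact_mod_cast hn)
  refine (Ideal.height_mono hF).trans ?_
  rw [PrimeSpectrum.height_eq_orderHeight p, PrimeSpectrum.height_eq_orderHeight (⟨Q, inferInstance⟩ : PrimeSpectrum 𝓕.extRees)]
  exact (Order.height_le_height_apply_of_strictMono _ (lift_strictMono 𝓕) p).trans (Order.height_mono hle)

variable [IsNoetherianRing A]

/-- `(S₂)` of the extended Rees algebra passes to the Rees algebra. -/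
theorem hasS2_rees (hfg : Algebra.FiniteType A 𝓕.rees) (hht : 2 ≤ (𝓕.F 1).height)
    (h : _root_.LocCoh.HasSk 2 𝓕.extRees 𝓕.extRees) : _root_.LocCoh.HasSk 2 𝓕.rees 𝓕.rees := by
  classical
  haveI := isNoetherianRing_rees 𝓕 hfg
  haveI := isNoetherianRing_extRees 𝓕 hfg
  have hA : _root_.LocCoh.HasSk 2 A A := ((hasS2_extRees_iff 𝓕).1 h).2
  rw [CAlgH3.hasSk_self_iff]
  intro P _
  by_cases hpos : ∃ (m : ℕ) (a : A) (ha : a ∈ 𝓕.F m), 0 < m ∧ rmono 𝓕 m a ha ∉ P
  · obtain ⟨m, a, ha, hm, hP⟩ := hpos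
    exact sk_at_of_away (fromRees 𝓕).toRingHom (fun x y hxy => Subtype.ext
      (Polynomial.toLaurent_injective (congrArg Subtype.val hxy)))
      _ (exists_pow_mul_mem_range_fromRees 𝓕 hm ha) 2 h P hP
  push Not at hpos
  by_cases hp : ∃ a ∈ 𝓕.F 1, algebraMap A 𝓕.rees a ∉ P
  · obtain ⟨a, ha, hP⟩ := hp
    exact sk_at_of_away 𝓕.rees.val.toRingHom Subtype.val_injective _
      (exists_pow_mul_mem_range_val 𝓕 ha) 2 (hasSk_polynomial 2 hA) P hP
  push Not at hp
  have hht' : ∀ Q : Ideal A, Q.IsPrime → 𝓕.F 1 ≤ Q → 2 ≤ Q.height :=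
    fun Q _ hQ => hht.trans (Ideal.height_mono hQ)
  obtain ⟨a, ha, hreg⟩ := exists_regular_mem (CAlgH3.hasSk_mono (by norm_num) hA) (J := 𝓕.F 1)
    fun Q hQ hQ' => le_trans (by norm_num) (hht' Q hQ hQ')
  have hreg' : IsSMulRegular 𝓕.rees (algebraMap A 𝓕.rees a) := by
    intro x y hxy
    apply Subtype.ext
    apply Polynomial.ext
    intro n
    have := congrArg (fun z : 𝓕.rees => (z : Polynomial A).coeff n) hxy
    simp only [smul_eq_mul, Subalgebra.coe_mul, Subalgebra.coe_algebraMap, Polynomial.algebraMap_apply,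
      Algebra.algebraMap_self, RingHom.id_apply, Polynomial.coeff_C_mul] at this
    exact hreg this
  refine le_trans (min_le_left _ _) ?_
  rw [show ((2 : ℕ) : WithBot ℕ∞) = ((2 : ℕ∞) : WithBot ℕ∞) from rfl, WithBot.coe_le_coe]
  refine two_le_depth_of_colon P (hp a ha) hreg' fun x hx => ?_
  have hA1 : ∀ n, (x : Polynomial A).coeff n ∈ Ideal.span {a} := by
    intro n
    refine mem_span_of_colon hA hreg (𝓕.F 1) (fun Q hQ hQ' _ => hht' Q hQ hQ') fun b hb => ?_
    obtain ⟨r, hr⟩ := Ideal.mem_span_singleton'.1 (hx _ (hp b hb))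
    refine Ideal.mem_span_singleton'.2 ⟨(r : Polynomial A).coeff n, ?_⟩
    have := congrArg (fun z : 𝓕.rees => (z : Polynomial A).coeff n) hr
    simpa only [Subalgebra.coe_mul, Subalgebra.coe_algebraMap, Polynomial.algebraMap_apply,
      Algebra.algebraMap_self, RingHom.id_apply, Polynomial.coeff_C_mul, Polynomial.coeff_mul_C] using this
  have hyF : ∀ n, ∀ y : A, y * a = (x : Polynomial A).coeff n → y ∈ 𝓕.F n := by
    intro n y hy
    rcases Nat.eq_zero_or_pos n with rfl | hn
    · rw [𝓕.zero_eq]; trivial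
    let J : Ideal 𝓕.extRees := Ideal.span
      ({𝓕.u ^ n} ∪ {z | ∃ (m : ℕ) (b : A) (hb : b ∈ 𝓕.F m), 0 < m ∧ z = mono 𝓕 m b (by simpa using hb)})
    have hw : algebraMap A 𝓕.extRees y ∈ Ideal.span {𝓕.u ^ n} := by
      refine mem_span_of_colon h ((isSMulRegular_u 𝓕).pow n) J (fun Q hQ hJQ hxQ => ?_) fun j hj => ?_
      · refine hht.trans (height_F_one_le 𝓕 (hQ.mem_of_pow_mem n hxQ) fun m b hb hm => ?_)
        exact hJQ (Ideal.subset_span (Or.inr ⟨m, b, hb, hm, rfl⟩))
      · induction hj using Submodule.span_induction with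
        | mem z hz =>
          rcases hz with rfl | ⟨m, b, hb, hm, rfl⟩
          · exact Ideal.mul_mem_right _ _ (Ideal.mem_span_singleton_self _)
          · obtain ⟨r, hr⟩ := Ideal.mem_span_singleton'.1 (hx _ (hpos m b hb hm))
            have hr' := congrArg (fun z : 𝓕.rees => (z : Polynomial A).coeff (n + m)) hr
            simp only [Subalgebra.coe_mul, Subalgebra.coe_algebraMap, Polynomial.algebraMap_apply,
              Algebra.algebraMap_self, RingHom.id_apply, Polynomial.coeff_mul_C, coe_rmono,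
              ← Polynomial.C_mul_X_pow_eq_monomial, mul_assoc, Polynomial.coeff_C_mul,
              Polynomial.coeff_X_pow_mul] at hr'
            rw [← hy] at hr'
            have hby : b * y ∈ 𝓕.F (n + m) := by
              have e : (r : Polynomial A).coeff (n + m) = b * y := hreg (by
                change a * _ = a * _
                rw [mul_comm a, hr']
                ring)
              exact e ▸ r.2 (n + m)
            refine Ideal.mem_span_singleton'.2 ⟨mono 𝓕 ((n + m : ℕ) : ℤ) (b * y) (by rw [Int.toNat_natCast]; exact hby), ?_⟩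
            apply Subtype.ext
            rw [Subalgebra.coe_mul, SubmonoidClass.coe_pow, coe_u, coe_mono, Subalgebra.coe_mul, coe_mono, T_pow,
              Subalgebra.coe_algebraMap, LaurentPolynomial.algebraMap_apply, Algebra.algebraMap_self,
              RingHom.id_apply, map_mul, Nat.cast_add, T_add, show (n : ℤ) * (-1) = -(n : ℤ) by ring,
              show (C b * C y * (T (n : ℤ) * T (m : ℤ)) * T (-(n : ℤ)) : A[T;T⁻¹]) =
                C b * C y * T (m : ℤ) * (T (n : ℤ) * T (-(n : ℤ))) by ring, ← T_add, add_neg_cancel, T_zero]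
            ring
        | zero => simp
        | add p q _ _ hp hq => rw [add_mul]; exact add_mem hp hq
        | smul c p _ hp => rw [smul_eq_mul, mul_assoc]; exact Ideal.mul_mem_left _ _ hp
    obtain ⟨w, hw⟩ := Ideal.mem_span_singleton'.1 hw
    have := congrArg (fun z : 𝓕.extRees => (z : A[T;T⁻¹]).coeff 0) hw
    simp only [Subalgebra.coe_mul, SubmonoidClass.coe_pow, coe_u, T_pow, Subalgebra.coe_algebraMap,
      LaurentPolynomial.algebraMap_apply, Algebra.algebraMap_self, RingHom.id_apply] at this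
    rw [LaurentPolynomial.T, AddMonoidAlgebra.coeff_mul_single_eq_coeff_mul (n : ℤ) (fun m _ => by omega), mul_one,
      LaurentPolynomial.C_apply, if_pos rfl] at this
    rw [← this]
    simpa using w.2 n
  choose y hy using fun n => Ideal.mem_span_singleton'.1 (hA1 n)
  refine Ideal.mem_span_singleton'.2
    ⟨∑ n ∈ (x : Polynomial A).support, rmono 𝓕 n (y n) (hyF n _ (hy n)), ?_⟩
  apply Subtype.ext
  rw [Subalgebra.coe_mul, AddSubmonoidClass.coe_finset_sum, Finset.sum_mul]
  conv_rhs => rw [(x : Polynomial A).as_sum_support]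
  refine Finset.sum_congr rfl fun n _ => ?_
  rw [coe_rmono, Subalgebra.coe_algebraMap, Polynomial.algebraMap_apply, Algebra.algebraMap_self, RingHom.id_apply,
    Polynomial.monomial_mul_C, hy n]

end Groth.Agent.CohDer1.FiltBl
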