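import Groth.Agent.CohDer1.FiltBl.CMGor
import Groth.Agent.CohDer1.FiltBl.Away
import Groth.Agent.CommAlg6.GeomFib
import Groth.Agent.CommAlg6.FibreSk
import Groth.Agent.CAlgH3.Serre

/-! Serre's `(S₂)` for the extended Rees algebra. -/

set_option autoImplicit false

universe u

open IsLocalRing LaurentPolynomial

namespace Groth.Agent.CohDer1.FiltBl

theorem sk_shift {k : ℕ} {D D' : WithBot ℕ∞} {e e' : ℕ∞} (hD : D' + 1 = D) (he : e' + 1 = e) :
    min ((k + 1 : ℕ) : WithBot ℕ∞) D ≤ (e : WithBot ℕ∞) ↔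
      min (k : WithBot ℕ∞) D' ≤ (e' : WithBot ℕ∞) := by
  subst hD he
  rw [Nat.cast_add, Nat.cast_one, WithBot.coe_add, WithBot.coe_one]
  rw [min_add_add_right]
  exact ⟨CAlgH3.withBot_add_one_le_cancel, fun h => add_le_add h le_rfl⟩

/-- `(S_{k+1})` of a local ring and `(S_k)` of a hyperplane section. -/
theorem sk_quotient_span {R : Type u} [CommRing R] [IsLocalRing R] [IsNoetherianRing R] {k : ℕ} {x : R}
    (hx : x ∈ maximalIdeal R) (hreg : IsSMulRegular R x) [IsLocalRing (R ⧸ Ideal.span {x})] :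
    min (k : WithBot ℕ∞) (ringKrullDim (R ⧸ Ideal.span {x})) ≤
        ((_root_.LocCoh.depth (R ⧸ Ideal.span {x}) (R ⧸ Ideal.span {x}) : ℕ∞) : WithBot ℕ∞) ↔
      min ((k + 1 : ℕ) : WithBot ℕ∞) (ringKrullDim R) ≤
        ((_root_.LocCoh.depth R R : ℕ∞) : WithBot ℕ∞) := by
  refine (sk_shift ?_ ?_).symm
  · have h := Module.supportDim_quotSMulTop_succ_eq_supportDim hreg hx
    rwa [Module.supportDim_eq_of_equiv (CAlgH3.quotSMulTopSelf x), Module.supportDim_quotient_eq_ringKrullDim,
      Module.supportDim_self_eq_ringKrullDim] at h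
  · rw [← CAlgH3.depth_quotSMulTop_add_one hx hreg, CAlgH3.depth_congr (CAlgH3.quotSMulTopSelf x),
      CAlgH3.depth_quotient_ring]

theorem sk_quot_iff {R : Type u} [CommRing R] [IsNoetherianRing R] {k : ℕ} (x : R) (hx : IsSMulRegular R x)
    (q : Ideal (R ⧸ Ideal.span {x})) [q.IsPrime] :
    min (k : WithBot ℕ∞) (ringKrullDim (Localization.AtPrime q)) ≤
        ((_root_.LocCoh.depth (Localization.AtPrime q) (Localization.AtPrime q) : ℕ∞) : WithBot ℕ∞) ↔
      min ((k + 1 : ℕ) : WithBot ℕ∞)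
          (ringKrullDim (Localization.AtPrime (q.comap (Ideal.Quotient.mk (Ideal.span {x}))))) ≤
        ((_root_.LocCoh.depth (Localization.AtPrime (q.comap (Ideal.Quotient.mk (Ideal.span {x}))))
          (Localization.AtPrime (q.comap (Ideal.Quotient.mk (Ideal.span {x})))) : ℕ∞) : WithBot ℕ∞) := by
  obtain ⟨e⟩ := exists_quot_local_equiv x q
  haveI := e.symm.isLocalRing
  rw [← sk_quotient_span (algebraMap_mem_maximal x q) (algebraMap_regular x hx _),
    ringKrullDim_eq_of_ringEquiv e, CAlgH3.depth_ringEquiv e]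

/-- `(S_k)` passes to Laurent polynomials and back. -/
theorem hasSk_laurent_iff {A : Type u} [CommRing A] [IsNoetherianRing A] (k : ℕ) :
    _root_.LocCoh.HasSk k A[T;T⁻¹] A[T;T⁻¹] ↔ _root_.LocCoh.HasSk k A A := by
  haveI : IsNoetherianRing A[T;T⁻¹] :=
    IsLocalization.isNoetherianRing (Submonoid.powers (Polynomial.X : Polynomial A)) _ inferInstance
  constructor
  · intro h
    haveI : Module.Free A A[T;T⁻¹] :=
      Module.Free.of_basis (Module.Basis.ofRepr (AddMonoidAlgebra.coeffLinearEquiv A))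
    haveI : Nontrivial A → Nontrivial A[T;T⁻¹] := fun _ => inferInstance
    rcases subsingleton_or_nontrivial A with hA | hA
    · intro p hp
      exact absurd (Subsingleton.elim p ⊤) hp.ne_top
    · exact CommAlg6.hasSk_descend (B := A[T;T⁻¹]) k h
  · intro h
    refine CAlgH3.hasSk_localization (Submonoid.powers (Polynomial.X : Polynomial A)) ?_
    refine CommAlg6.hasSk_of_base_and_fibres (A := A) k h ((CommAlg6.forall_hasSk_fiber_iff k).1 fun p _ => ?_)
    haveI : IsRegularRing (p.Fiber (Polynomial A)) :=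
      IsRegularRing.of_ringEquiv (polyEquivTensor A p.ResidueField).toRingEquiv
    exact CommAlg6.isCMRing_of_isRegularRing k

variable {A : Type u} [CommRing A] [IsNoetherianRing A] (𝓕 : _root_.FiltBl.IdealFiltration A)
  [IsNoetherianRing 𝓕.extRees]

theorem hasS2_extRees_iff :
    _root_.LocCoh.HasSk 2 𝓕.extRees 𝓕.extRees ↔
      (_root_.LocCoh.HasSk 1 𝓕.Gr 𝓕.Gr ∧ _root_.LocCoh.HasSk 2 A A) := by
  constructor
  · intro h
    refine ⟨?_, (hasSk_laurent_iff 2).1 (CAlgH3.hasSk_localization (Submonoid.powers 𝓕.u) h)⟩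
    rw [CAlgH3.hasSk_self_iff] at h ⊢
    exact fun q _ => (sk_quot_iff 𝓕.u (isSMulRegular_u 𝓕) q).2 (h _)
  · rintro ⟨hG, hA⟩
    have hB := (hasSk_laurent_iff 2).2 hA
    rw [CAlgH3.hasSk_self_iff] at hG hB ⊢
    intro P _
    by_cases huP : 𝓕.u ∈ P
    · obtain ⟨q, hq, rfl⟩ := exists_comap_eq P huP
      exact (sk_quot_iff (k := 1) 𝓕.u (isSMulRegular_u 𝓕) q).1 (hG q)
    · have disj : Disjoint (Submonoid.powers 𝓕.u : Set 𝓕.extRees) P := by
        rw [Set.disjoint_left]
        rintro x ⟨n, rfl⟩ hx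
        exact huP (Ideal.IsPrime.mem_of_pow_mem inferInstance n hx)
      let P' := P.map (algebraMap 𝓕.extRees A[T;T⁻¹])
      haveI : P'.IsPrime := IsLocalization.isPrime_of_isPrime_disjoint (Submonoid.powers 𝓕.u) _ _ inferInstance disj
      have hP : P'.comap (algebraMap 𝓕.extRees A[T;T⁻¹]) = P :=
        IsLocalization.under_map_of_isPrime_disjoint (Submonoid.powers 𝓕.u) _ inferInstance disj
      have h := hB P'
      obtain ⟨e, -⟩ := CAlgH3.isLocalization_atPrime_under (Submonoid.powers 𝓕.u) P'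
      rw [← ringKrullDim_eq_of_ringEquiv e, ← CAlgH3.depth_ringEquiv e] at h
      have hgen : ∀ (P₁ : Ideal 𝓕.extRees) [P₁.IsPrime], P₁ = P →
          min (2 : WithBot ℕ∞) (ringKrullDim (Localization.AtPrime P₁)) ≤
            ((_root_.LocCoh.depth (Localization.AtPrime P₁) (Localization.AtPrime P₁) : ℕ∞) : WithBot ℕ∞) →
          min (2 : WithBot ℕ∞) (ringKrullDim (Localization.AtPrime P)) ≤
            ((_root_.LocCoh.depth (Localization.AtPrime P) (Localization.AtPrime P) : ℕ∞) : WithBot ℕ∞) := by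
        intro P₁ _ hP₁ h1
        subst hP₁
        exact h1
      exact_mod_cast hgen _ hP (by exact_mod_cast h)

end Groth.Agent.CohDer1.FiltBl
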