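import Groth.Agent.CohDer1.FiltBl.Basic
import Groth.Agent.CohDer1.FiltBl.Away
import Mathlib

/-! Factoriality of the extended Rees algebra. -/

set_option autoImplicit false

universe u

open LaurentPolynomial UniqueFactorizationMonoid

namespace Groth.Agent.CohDer1.FiltBl

section nagata

variable {R S : Type u} [CommRing R] [IsDomain R] [CommRing S] [IsDomain S] [Algebra R S]

/-- A localisation of a factorial domain is factorial. -/
theorem ufd_of_isLocalization (W : Submonoid R) [IsLocalization W S] (hW : W ≤ nonZeroDivisors R)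
    [UniqueFactorizationMonoid R] : UniqueFactorizationMonoid S := by
  rw [iff_exists_prime_mem_of_isPrime]
  intro P hP0 hP
  have hc : P.comap (algebraMap R S) ≠ ⊥ := fun h => hP0 (by
    rw [← IsLocalization.map_under W S P]
    change Ideal.map _ (P.comap (algebraMap R S)) = ⊥
    rw [h, Ideal.map_bot])
  obtain ⟨x, hx, hxp⟩ := (inferInstance : (P.comap (algebraMap R S)).IsPrime).exists_mem_prime_of_ne_bot hc
  haveI : (Ideal.span {x}).IsPrime := (Ideal.span_singleton_prime hxp.ne_zero).2 hxp
  have disj : Disjoint (W : Set R) (Ideal.span {x} : Ideal R) := by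
    rw [Set.disjoint_left]
    intro w hw hwx
    have h1 : algebraMap R S w ∈ P :=
      (Ideal.span_singleton_le_iff_mem (P.comap (algebraMap R S))).2 hx hwx
    exact hP.ne_top (Ideal.eq_top_of_isUnit_mem _ h1 (IsLocalization.map_units S (⟨w, hw⟩ : W)))
  have h2 := IsLocalization.isPrime_of_isPrime_disjoint W S (Ideal.span {x}) inferInstance disj
  rw [Ideal.map_span, Set.image_singleton] at h2
  refine ⟨algebraMap R S x, hx, (Ideal.span_singleton_prime ?_).1 h2⟩
  exact (map_ne_zero_iff _ (IsLocalization.injective S hW)).2 hxp.ne_zero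

/-- Nagata's criterion. -/
theorem ufd_of_away [IsNoetherianRing R] (u : R) (hu : Prime u) [IsLocalization.Away u S]
    [UniqueFactorizationMonoid S] : UniqueFactorizationMonoid R := by
  have hinj : Function.Injective (algebraMap R S) :=
    IsLocalization.injective S (powers_le_nonZeroDivisors_of_noZeroDivisors hu.ne_zero)
  rw [iff_exists_prime_mem_of_isPrime]
  intro P hP0 hP
  by_cases huP : u ∈ P
  · exact ⟨u, huP, hu⟩
  have disj : Disjoint (Submonoid.powers u : Set R) P := by
    rw [Set.disjoint_left]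
    rintro _ ⟨n, rfl⟩ h
    exact huP (hP.mem_of_pow_mem n h)
  have hPS : (P.map (algebraMap R S)).IsPrime :=
    IsLocalization.isPrime_of_isPrime_disjoint (Submonoid.powers u) _ _ hP disj
  have hPc : (P.map (algebraMap R S)).comap (algebraMap R S) = P :=
    IsLocalization.under_map_of_isPrime_disjoint (Submonoid.powers u) _ hP disj
  have hPS0 : P.map (algebraMap R S) ≠ ⊥ := fun h => hP0 (by
    rw [← hPc, h, ← RingHom.ker_eq_comap_bot, (RingHom.injective_iff_ker_eq_bot _).1 hinj])
  obtain ⟨π, hπ, hπp⟩ := hPS.exists_mem_prime_of_ne_bot hPS0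
  obtain ⟨⟨r₀, ⟨_, m, rfl⟩⟩, hr₀⟩ := IsLocalization.surj (Submonoid.powers u) π
  have hr0 : r₀ ≠ 0 := by
    rintro rfl
    rw [map_zero, map_pow] at hr₀
    exact hπp.ne_zero (((IsLocalization.Away.algebraMap_isUnit u).pow m).mul_left_eq_zero.1 hr₀)
  obtain ⟨k, r, hr, hrk⟩ := WfDvdMonoid.max_power_factor hr0 hu.irreducible
  have hass : Associated π (algebraMap R S r) := by
    refine (associated_mul_unit_right π _ ((IsLocalization.Away.algebraMap_isUnit u).pow m)).trans ?_
    rw [← map_pow, hr₀, hrk, map_mul, map_pow]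
    exact associated_unit_mul_left _ _ ((IsLocalization.Away.algebraMap_isUnit u).pow k)
  refine ⟨r, hPc ▸ (Ideal.mem_comap.2 ?_), ?_⟩
  · obtain ⟨v, hv⟩ := hass
    rw [← hv]
    exact Ideal.mul_mem_right _ _ hπ
  have hrp : Prime (algebraMap R S r) := hass.prime hπp
  refine ⟨fun h => hr (h ▸ dvd_zero u), fun h => hrp.not_unit (h.map _), fun a b hab => ?_⟩
  have key : ∀ c : R, algebraMap R S r ∣ algebraMap R S c → r ∣ c := by
    rintro c ⟨z, hz⟩
    obtain ⟨⟨d, ⟨_, j, rfl⟩⟩, hd⟩ := IsLocalization.surj (Submonoid.powers u) z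
    have he : c * u ^ j = r * d := hinj (by
      change z * algebraMap R S (u ^ j) = algebraMap R S d at hd
      rw [map_mul, map_mul, hz, ← hd, mul_assoc])
    obtain ⟨d', rfl⟩ : u ^ j ∣ d := hu.pow_dvd_of_dvd_mul_left j hr ⟨c, by rw [← he]; ring⟩
    refine ⟨d', mul_right_cancel₀ (pow_ne_zero j hu.ne_zero) (he.trans ?_)⟩
    ring
  rcases hrp.dvd_or_dvd (show algebraMap R S r ∣ algebraMap R S a * algebraMap R S b by
      rw [← map_mul]; exact map_dvd _ hab) with h | h
  · exact Or.inl (key a h)
  · exact Or.inr (key b h)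

end nagata

variable {A : Type u} [CommRing A] [IsDomain A]

theorem polynomial_monomial_of_natDegree_eq {p : Polynomial A} (h : p.natDegree = p.natTrailingDegree) :
    p = Polynomial.C (p.coeff p.natDegree) * Polynomial.X ^ p.natDegree := by
  ext j
  rw [Polynomial.coeff_C_mul_X_pow]
  rcases lt_trichotomy j p.natDegree with hj | rfl | hj
  · rw [if_neg hj.ne, Polynomial.coeff_eq_zero_of_lt_natTrailingDegree (h ▸ hj)]
  · rw [if_pos rfl]
  · rw [if_neg hj.ne', Polynomial.coeff_eq_zero_of_natDegree_lt hj]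

/-- Divisors of homogeneous Laurent polynomials are homogeneous. -/
theorem exists_mono_of_mul_eq {f g : A[T;T⁻¹]} {a : A} {n : ℤ} (ha : a ≠ 0) (h : f * g = C a * T n) :
    ∃ (b : A) (i : ℤ), f = C b * T i := by
  obtain ⟨k, f', hf⟩ := exists_T_pow f
  obtain ⟨l, g', hg⟩ := exists_T_pow g
  have hP : Polynomial.toLaurent (f' * g') = C a * T (n + (k + l)) := by
    rw [map_mul, hf, hg, show f * T (k : ℤ) * (g * T (l : ℤ)) = f * g * (T (k : ℤ) * T (l : ℤ)) by ring, h,
      ← T_add, mul_assoc, ← T_add]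
  have hsupp : (f' * g').support.card = 1 := by
    have h1 := support_coeff_toLaurent (f' * g')
    rw [hP, support_coeff_C_mul_T_of_ne_zero ha] at h1
    have := congrArg Finset.card h1
    simpa using this.symm
  have hne : f' * g' ≠ 0 := fun h0 => by simp [h0] at hsupp
  obtain ⟨i, hi⟩ := Finset.card_eq_one.1 hsupp
  have hdeg : (f' * g').natDegree = i := by
    have := Polynomial.natDegree_mem_support_of_nonzero hne
    rw [hi, Finset.mem_singleton] at this
    exact this
  have htr : (f' * g').natTrailingDegree = i := by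
    have := Polynomial.natTrailingDegree_mem_support_of_nonzero hne
    rw [hi, Finset.mem_singleton] at this
    exact this
  have hf0 : f' ≠ 0 := left_ne_zero_of_mul hne
  have hg0 : g' ≠ 0 := right_ne_zero_of_mul hne
  rw [Polynomial.natDegree_mul hf0 hg0] at hdeg
  rw [Polynomial.natTrailingDegree_mul hf0 hg0] at htr
  have hfeq : f'.natDegree = f'.natTrailingDegree := by
    have := f'.natTrailingDegree_le_natDegree
    have := g'.natTrailingDegree_le_natDegree
    omega
  refine ⟨f'.coeff f'.natDegree, (f'.natDegree : ℤ) - k, ?_⟩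
  rw [polynomial_monomial_of_natDegree_eq hfeq, Polynomial.toLaurent_C_mul_X_pow] at hf
  rw [T_sub, ← mul_assoc, hf, mul_T_assoc, add_neg_cancel, T_zero, mul_one]

theorem ufd_laurent [UniqueFactorizationMonoid A] : UniqueFactorizationMonoid A[T;T⁻¹] :=
  ufd_of_isLocalization (Submonoid.powers (Polynomial.X : Polynomial A))
    (powers_le_nonZeroDivisors_of_noZeroDivisors Polynomial.X_ne_zero)

theorem ufd_of_laurent [UniqueFactorizationMonoid A[T;T⁻¹]] : UniqueFactorizationMonoid A := by
  have hC : Function.Injective (C : A → A[T;T⁻¹]) := fun a b h => by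
    have := congrArg (fun x : A[T;T⁻¹] => x.coeff 0) h
    simpa using this
  rw [iff_exists_prime_mem_of_isPrime]
  intro p hp0 hp
  obtain ⟨a, hap, ha⟩ := Submodule.exists_mem_ne_zero_of_ne_bot hp0
  obtain ⟨s, hs, u, hsu⟩ := exists_prime_factors (C a : A[T;T⁻¹]) (fun h => ha (hC (by rw [h, map_zero])))
  have key : ∀ t : Multiset A[T;T⁻¹], (∀ x ∈ t, Prime x) → ∀ (b : A), b ≠ 0 → b ∈ p →
      Associated t.prod (C b) → ∃ c ∈ p, Prime c := by
    intro t
    induction t using Multiset.induction with
    | empty =>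
      intro _ b _ hbp hb
      exfalso
      rw [Multiset.prod_zero] at hb
      obtain ⟨v, hv⟩ := isUnit_iff_exists_inv.1 ((associated_one_iff_isUnit (a := C b)).1 hb.symm)
      have h0 := congrArg (fun x : A[T;T⁻¹] => x.coeff 0) hv
      simp only [← smul_eq_C_mul, AddMonoidAlgebra.coeff_smul, Finsupp.smul_apply, smul_eq_mul] at h0
      rw [← T_zero, T_apply, if_pos rfl] at h0
      exact hp.ne_top (Ideal.eq_top_of_isUnit_mem _ hbp (IsUnit.of_mul_eq_one _ h0))
    | cons x t ih =>
      intro hx b hb0 hbp hass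
      obtain ⟨v, hv⟩ := hass
      rw [Multiset.prod_cons, mul_assoc, ← mul_one (C b), ← T_zero] at hv
      obtain ⟨c, i, rfl⟩ := exists_mono_of_mul_eq hb0 hv
      have hprime := hx _ (Multiset.mem_cons_self _ _)
      have hCc : Prime (C c : A[T;T⁻¹]) := (associated_mul_unit_left (C c) _ (isUnit_T i)).prime hprime
      have hc : Prime c := by
        refine ⟨fun h => hCc.ne_zero (by rw [h, map_zero]), fun h => hCc.not_unit (h.map C), fun y z hyz => ?_⟩
        have key2 : ∀ y : A, (C c : A[T;T⁻¹]) ∣ C y → c ∣ y := by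
          rintro y ⟨w, hw⟩
          have := congrArg (fun q : A[T;T⁻¹] => q.coeff 0) hw
          simp only [C_apply, if_true, ← smul_eq_C_mul, AddMonoidAlgebra.coeff_smul, Finsupp.smul_apply, smul_eq_mul] at this
          exact ⟨_, this⟩
        exact (hCc.dvd_or_dvd (show C c ∣ C y * C z by rw [← map_mul]; exact map_dvd C hyz)).imp (key2 y) (key2 z)
      obtain ⟨d, j, hd⟩ := exists_mono_of_mul_eq (f := t.prod * (v : A[T;T⁻¹])) (g := C c * T i) hb0 (by rw [mul_comm]; exact hv)
      rw [hd] at hv
      have hbcd : b = c * d := by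
        have hij : C (c * d) * T (i + j) = C b * T 0 := by rw [← hv, map_mul, T_add]; ring
        have h1 := congrArg (fun q : A[T;T⁻¹] => q.coeff 0) hij
        simp only [← single_eq_C_mul_T, AddMonoidAlgebra.coeff_single, Finsupp.single_apply] at h1
        split_ifs at h1 with h2
        · exact h1.symm
        · exact absurd h1.symm hb0
      rcases hp.mem_or_mem (hbcd ▸ hbp) with hcp | hdp
      · exact ⟨c, hcp, hc⟩
      · refine ih (fun y hy => hx y (Multiset.mem_cons_of_mem hy)) d (fun h => hb0 (by rw [hbcd, h, mul_zero])) hdp ?_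
        refine (associated_mul_unit_right t.prod _ v.isUnit).trans ?_
        rw [hd]
        exact associated_mul_unit_left _ _ (isUnit_T j)
  exact key s hs a ha hap ⟨u, hsu⟩

variable (𝓕 : _root_.FiltBl.IdealFiltration A)

theorem u_ne_zero : 𝓕.u ≠ 0 := fun h =>
  (isUnit_T (R := A) (-1)).ne_zero (congrArg Subtype.val h)

theorem ufd_extRees_iff [IsNoetherianRing 𝓕.extRees] [IsLocalRing A] (h1 : 𝓕.F 1 ≠ ⊤) :
    UniqueFactorizationMonoid 𝓕.extRees ↔ (UniqueFactorizationMonoid A ∧ IsDomain 𝓕.Gr) := by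
  constructor
  · intro h
    haveI : UniqueFactorizationMonoid A[T;T⁻¹] :=
      ufd_of_isLocalization (Submonoid.powers 𝓕.u) (powers_le_nonZeroDivisors_of_noZeroDivisors (u_ne_zero 𝓕))
    refine ⟨ufd_of_laurent, ?_⟩
    refine (Ideal.Quotient.isDomain_iff_prime _).2 ((Ideal.span_singleton_prime (u_ne_zero 𝓕)).2 ?_)
    refine irreducible_iff_prime.1 ⟨fun hu => ?_, fun f g hfg => ?_⟩
    · exact sup_span_u_ne_top 𝓕 h1 (I := ⊥) (Ideal.IsHomogeneous.bot _) bot_ne_top
        (by rw [bot_sup_eq, Ideal.span_singleton_eq_top]; exact hu)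
    have hv : (f : A[T;T⁻¹]) * (g : A[T;T⁻¹]) = C (1 : A) * T (-1) := by
      rw [map_one, one_mul, ← Subalgebra.coe_mul, ← hfg]; rfl
    obtain ⟨a, i, hf⟩ := exists_mono_of_mul_eq one_ne_zero hv
    obtain ⟨b, j, hg⟩ := exists_mono_of_mul_eq one_ne_zero (show (g : A[T;T⁻¹]) * (f : A[T;T⁻¹]) = C (1 : A) * T (-1) by
      rw [mul_comm]; exact hv)
    rw [hf, hg, show C a * T i * (C b * T j) = C (a * b) * T (i + j) by rw [map_mul, T_add]; ring] at hv
    have h3 := congrArg (fun q : A[T;T⁻¹] => q.coeff (-1)) hv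
    simp only [← single_eq_C_mul_T, AddMonoidAlgebra.coeff_single, Finsupp.single_apply] at h3
    split_ifs at h3 with hij
    · have hzero : ∀ (n : ℤ) (c : A) (x : 𝓕.extRees), IsUnit c → (x : A[T;T⁻¹]) = C c * T n → n ≤ 0 := by
        intro n c x hc hx
        by_contra hn
        have := x.2 n
        rw [hx, coeff_CT, if_pos rfl] at this
        exact h1 (Ideal.eq_top_of_isUnit_mem _ (𝓕.antitone (show 1 ≤ n.toNat by omega) this) hc)
      have hi := hzero i a f (IsUnit.of_mul_eq_one _ h3) hf
      have hj := hzero j b g (IsUnit.of_mul_eq_one _ (by rw [mul_comm]; exact h3)) hg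
      rcases (show i = 0 ∨ j = 0 by omega) with rfl | rfl
      · left
        have : f = algebraMap A 𝓕.extRees a := Subtype.ext (by rw [hf, T_zero, mul_one]; rfl)
        exact this ▸ (IsUnit.of_mul_eq_one _ h3).map _
      · right
        have : g = algebraMap A 𝓕.extRees b := Subtype.ext (by rw [hg, T_zero, mul_one]; rfl)
        exact this ▸ (IsUnit.of_mul_eq_one _ (by rw [mul_comm]; exact h3)).map _
    · exact absurd h3 zero_ne_one
  · rintro ⟨hA, hG⟩
    haveI := ufd_laurent (A := A)
    exact ufd_of_away (S := A[T;T⁻¹]) 𝓕.u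
      ((Ideal.span_singleton_prime (u_ne_zero 𝓕)).1 ((Ideal.Quotient.isDomain_iff_prime _).1 hG))

end Groth.Agent.CohDer1.FiltBl
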